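import Cfsg.Agent.H965.XZ.IdxB
import Cfsg.Agent.H796.XZ.LinDefs

/-!
# The order of `P_{J_A}`, type `B_m`, `J_A` of type `(A_{e-1})^w` (helper236, for S4791 / S4927)
-/

set_option autoImplicit false
set_option linter.unusedSectionVars false

namespace Cfsg.Agent.H236.XZ

open CoxeterSystem Cfsg.Agent.ChevalleyStructure.CoxeterGeom Cfsg.Agent.Tits.Roots Cfsg.Agent.Tits.Core
  Cfsg.Agent.Tits.RootComb Cfsg.Agent.Tits.Exchange Cfsg.Agent.Nodes.Comb Cfsg.Agent.Nodes.Reps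
  Cfsg.Agent.Nodes.BNOf Cfsg.Agent.Nodes.StabComb Cfsg.Agent.Nodes.Bruhat Cfsg.Agent.Nodes.OppDec
  Cfsg.Agent.Nodes.LeviDec Cfsg.Agent.Nodes.NormalForm Cfsg.Agent.ChevalleyStructure.WeylAbstract
  Cfsg.Agent.H35.Poin Cfsg.Agent.H965.XZ Cfsg.Agent.H796.XZ

theorem not_dvd_block {e w t : ℕ} (ht : t + 1 < e) : ¬ e ∣ e * w + t + 1 := by
  intro h
  rw [add_assoc, Nat.dvd_add_right (Dvd.intro w rfl)] at h
  have := Nat.le_of_dvd (Nat.succ_pos t) h
  omega

section general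

variable {m : ℕ} {M : CoxeterMatrix (Fin m)} {W Y : Type*} [Group W] [Group Y] {cs : CoxeterSystem M W}
  {A : Fin m → Fin m → ℤ} {h : IsCartan M A} {r : ℕ} {T : Subgroup Y} {n : Fin m → Y}
  {X : (Fin m → ℤ) → Subgroup Y}

/-- the last block -/
theorem apath_block (hadj : ∀ i j : Fin m, (i : ℕ) + 1 = j → (j : ℕ) + 1 < m → A i j = -1 ∧ A j i = -1)
    (hfar : ∀ i j : Fin m, (i : ℕ) + 1 < j → (j : ℕ) + 1 < m → A i j = 0 ∧ A j i = 0) (hm : 0 < m) {e w : ℕ}
    (hw : e * (w + 1) ≤ m) : APath A (JA m e (w + 1)) (fun t => nd hm (e * w + t)) (e - 1) where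
  mem t ht := by
    rw [Nat.mul_succ] at hw
    show (nd hm (e * w + t) : ℕ) + 1 < e * (w + 1) ∧ ¬ e ∣ (nd hm (e * w + t) : ℕ) + 1
    rw [nd_val hm (by omega), Nat.mul_succ]
    exact ⟨by omega, not_dvd_block (by omega)⟩
  adj t ht := by
    rw [Nat.mul_succ] at hw
    exact hadj _ _ (by rw [nd_val hm (by omega), nd_val hm (by omega)]; omega) (by rw [nd_val hm (by omega)]; omega)
  far s t hs ht := by
    rw [Nat.mul_succ] at hw
    exact hfar _ _ (by rw [nd_val hm (by omega), nd_val hm (by omega)]; omega) (by rw [nd_val hm (by omega)]; omega)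
  out j hj hc t ht := by
    have hw' := hw
    rw [Nat.mul_succ] at hw'
    obtain ⟨h1, h2⟩ : (j : ℕ) + 1 < e * (w + 1) ∧ ¬ e ∣ (j : ℕ) + 1 := hj
    rw [Nat.mul_succ] at h1
    have h3 : (j : ℕ) < e * w := by
      by_contra h3
      refine hc ((j : ℕ) - e * w) (by omega) (Fin.ext ?_)
      rw [nd_val hm (by omega)]
      omega
    have h4 : (j : ℕ) + 1 ≠ e * w := fun h4 => h2 (h4 ▸ Dvd.intro w rfl)
    exact (hfar j (nd hm (e * w + t)) (by rw [nd_val hm (by omega)]; omega) (by rw [nd_val hm (by omega)]; omega)).2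
  inj s hs t ht h1 := by
    rw [Nat.mul_succ] at hw
    have h2 := congrArg Fin.val h1
    change (nd hm (e * w + s) : ℕ) = nd hm (e * w + t) at h2
    rw [nd_val hm (by omega), nd_val hm (by omega)] at h2
    omega

/-- **The order of `P_{J_A}`**, any Cartan matrix which is of type `A` on the nodes `k`, `k + 1 < m`. -/
theorem card_PJ_JA_of (R : RGD cs h r T n X) [Finite W] [Finite Y]
    (hadj : ∀ i j : Fin m, (i : ℕ) + 1 = j → (j : ℕ) + 1 < m → A i j = -1 ∧ A j i = -1)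
    (hfar : ∀ i j : Fin m, (i : ℕ) + 1 < j → (j : ℕ) + 1 < m → A i j = 0 ∧ A j i = 0) {y : ℕ}
    (hy : ∀ i : Fin m, (i : ℕ) + 1 < m → Nat.card (X (sr i)) = y) {e : ℕ} (he : 0 < e) :
    ∀ w : ℕ, e * w ≤ m → Nat.card ↥(PJ cs h T X (JA m e w)) =
      (∏ i ∈ Finset.range e, gs y (i + 1)) ^ w * Nat.card ↥(RGD.B cs h T X) := by
  intro w
  induction w with
  | zero =>
    intro _
    have h1 : JA m e 0 = ∅ := by
      ext k
      constructor
      · rintro ⟨h1, -⟩
        rw [mul_zero] at h1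
        exact absurd h1 (Nat.not_lt_zero _)
      · intro h
        exact h.elim
    rw [h1, PJ_empty, pow_zero, one_mul]
  | succ w ih =>
    intro hw
    have hw' := hw
    rw [Nat.mul_succ] at hw'
    have hm : 0 < m := by omega
    rw [card_PJ_path R (apath_block hadj hfar hm hw) (y := y) (fun t ht => hy _ (by rw [nd_val hm (by omega)]; omega))]
    have h1 : JA m e (w + 1) \ {j | ∃ t < e - 1, nd hm (e * w + t) = j} = JA m e w := by
      ext j
      constructor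
      · rintro ⟨⟨h2, h3⟩, h4⟩
        rw [Nat.mul_succ] at h2
        have h5 : (j : ℕ) < e * w := by
          by_contra h5
          refine h4 ⟨(j : ℕ) - e * w, by omega, Fin.ext ?_⟩
          rw [nd_val hm (by omega)]
          omega
        have h6 : (j : ℕ) + 1 ≠ e * w := fun h6 => h3 (h6 ▸ Dvd.intro w rfl)
        exact ⟨by omega, h3⟩
      · rintro ⟨h2, h3⟩
        refine ⟨⟨by rw [Nat.mul_succ]; omega, h3⟩, ?_⟩
        rintro ⟨t, ht, h4⟩
        rw [← h4, nd_val hm (by omega)] at h2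
        omega
    have h2 : ∏ i ∈ Finset.range e, gs y (i + 1) = ∏ i ∈ Finset.range (e - 1), ∑ t ∈ Finset.range (i + 2), y ^ t := by
      obtain ⟨b, rfl⟩ : ∃ b, e = b + 1 := ⟨e - 1, by omega⟩
      rw [Finset.prod_range_succ', Nat.add_sub_cancel]
      have h2 : gs y (0 + 1) = 1 := by simp [gs]
      rw [h2, mul_one]
      rfl
    rw [h1, ih (by omega), ← h2, pow_succ']
    ring

end general

/-- **The order of `P_{J_A}`**, type `B_m`. -/
theorem card_PJ_JA {m : ℕ} {W Y : Type*} [Group W] [Group Y] {cs : CoxeterSystem (CoxeterMatrix.B m) W}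
    {A : Fin m → Fin m → ℤ} {h : IsCartan (CoxeterMatrix.B m) A} {r : ℕ} {T : Subgroup Y} {n : Fin m → Y}
    {X : (Fin m → ℤ) → Subgroup Y} (R : RGD cs h r T n X) [Finite W] [Finite Y] {y : ℕ}
    (hy : ∀ i : Fin m, (i : ℕ) + 1 < m → Nat.card (X (sr i)) = y) {e : ℕ} (he : 0 < e) (w : ℕ) (hw : e * w ≤ m) :
    Nat.card ↥(PJ cs h T X (JA m e w)) =
      (∏ i ∈ Finset.range e, gs y (i + 1)) ^ w * Nat.card ↥(RGD.B cs h T X) :=
  card_PJ_JA_of R (fun _ _ h1 h2 => cart_adj h h1 h2) (fun _ _ h1 _ => cart_far h h1) hy he w hw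

end Cfsg.Agent.H236.XZ
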