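import Cfsg.Agent.H236.XZ.SgnFlag
import Cfsg.Agent.H636.LIN.Alt

/-!
# The cells of `W(B_n)` and chains of signed subsets (helper236, for S4791 / S4927, box (L-b))

`bl : Fin n → Option ι` : blocks of indices (intervals, the indices outside the blocks at the end); `J₁' = JP bl` the nodes
inside the blocks, `J₁ = JJ bl` these nodes and those of the tail. `Good cs bl T w` : `w⁻¹ Φ_{J₁'}` is supported outside `T`.

* `exists_equiv_flag` : bijections between flags of sets with the same cardinalities;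
* `exists_code` : the code of a good `w` is a chain of type `T`; every chain is a code; two codes agree iff the elements lie
  in the same double coset of `W_{J₁}`, `W_{Tᶜ}`;
* `card_of_kernel` : the number of classes of good elements is `nch (dm d) T`.
-/

set_option autoImplicit false
set_option linter.unusedSectionVars false

namespace Cfsg.Agent.H236.XZ

open Cfsg Cfsg.Agent.ChevalleyStructure.CoxeterGeom Cfsg.Agent.Tits.Roots Cfsg.Agent.Nodes.TypeC Cfsg.Agent.H215.WB
open CoxeterSystem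
open Cfsg.Agent.H636.LIN (Sg Q dm nch chs mem_chs)

universe u₁ u₂

/-! ### flags of sets -/

theorem exists_equiv_flag {κ : Type*} [LinearOrder κ] (T : Finset κ) :
    ∀ (α : Type u₁) (β : Type u₂) [Finite α] [Finite β] (_ : Nat.card α = Nat.card β) (A : κ → Set α) (B : κ → Set β)
      (_ : ∀ s ∈ T, ∀ t ∈ T, s ≤ t → A s ⊆ A t) (_ : ∀ s ∈ T, ∀ t ∈ T, s ≤ t → B s ⊆ B t)
      (_ : ∀ t ∈ T, Nat.card (A t) = Nat.card (B t)), ∃ e : α ≃ β, ∀ t ∈ T, ∀ i, e i ∈ B t ↔ i ∈ A t := by
  classical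
  induction T using Finset.induction_on_max with
  | empty =>
    intro α β _ _ hc A B _ _ _
    exact ⟨(Finite.card_eq.1 hc).some, fun t ht => absurd ht (Finset.notMem_empty t)⟩
  | insert m T hm ih =>
    intro α β _ _ hc A B hA hB hcard
    have hmT := Finset.mem_insert_self m T
    have hsub : ∀ t ∈ T, t ∈ insert m T := fun t ht => Finset.mem_insert_of_mem ht
    have hAm : ∀ t ∈ T, A t ⊆ A m := fun t ht => hA t (hsub t ht) m hmT (hm t ht).le
    have hBm : ∀ t ∈ T, B t ⊆ B m := fun t ht => hB t (hsub t ht) m hmT (hm t ht).le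
    have hcA : ∀ t ∈ T, Nat.card ({x | x.1 ∈ A t} : Set (A m)) = Nat.card (A t) := fun t ht =>
      Nat.card_congr ⟨fun x => ⟨x.1.1, x.2⟩, fun x => ⟨⟨x.1, hAm t ht x.2⟩, x.2⟩, fun _ => rfl, fun _ => rfl⟩
    have hcB : ∀ t ∈ T, Nat.card ({x | x.1 ∈ B t} : Set (B m)) = Nat.card (B t) := fun t ht =>
      Nat.card_congr ⟨fun x => ⟨x.1.1, x.2⟩, fun x => ⟨⟨x.1, hBm t ht x.2⟩, x.2⟩, fun _ => rfl, fun _ => rfl⟩
    obtain ⟨e₁, he₁⟩ := ih (A m) (B m) (hcard m hmT) (fun s => {x | x.1 ∈ A s}) (fun s => {x | x.1 ∈ B s})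
      (fun s hs t ht hst x hx => hA s (hsub s hs) t (hsub t ht) hst hx)
      (fun s hs t ht hst x hx => hB s (hsub s hs) t (hsub t ht) hst hx)
      (fun t ht => by rw [hcA t ht, hcB t ht]; exact hcard t (hsub t ht))
    have hc2 : Nat.card ((A m)ᶜ : Set α) = Nat.card ((B m)ᶜ : Set β) := by
      have h1 := Nat.card_congr (Equiv.Set.sumCompl (A m))
      have h2 := Nat.card_congr (Equiv.Set.sumCompl (B m))
      rw [Nat.card_sum] at h1 h2
      have h3 := hcard m hmT
      omega
    let e₂ : ↥(A m)ᶜ ≃ ↥(B m)ᶜ := (Finite.card_eq.1 hc2).some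
    let e : α ≃ β := (Equiv.Set.sumCompl (A m)).symm.trans ((Equiv.sumCongr e₁ e₂).trans (Equiv.Set.sumCompl (B m)))
    have h1 : ∀ i (hi : i ∈ A m), e i = (e₁ ⟨i, hi⟩ : β) := by
      intro i hi
      change (Equiv.Set.sumCompl (B m)) ((Equiv.sumCongr e₁ e₂) ((Equiv.Set.sumCompl (A m)).symm i)) = _
      rw [Equiv.Set.sumCompl_symm_apply_of_mem hi]
      rfl
    have h2 : ∀ i (hi : i ∉ A m), e i = (e₂ ⟨i, hi⟩ : β) := by
      intro i hi
      change (Equiv.Set.sumCompl (B m)) ((Equiv.sumCongr e₁ e₂) ((Equiv.Set.sumCompl (A m)).symm i)) = _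
      rw [Equiv.Set.sumCompl_symm_apply_of_notMem hi]
      rfl
    refine ⟨e, fun t ht i => ?_⟩
    by_cases hi : i ∈ A m
    · rw [h1 i hi]
      rcases Finset.mem_insert.1 ht with rfl | ht'
      · exact iff_of_true (e₁ ⟨i, hi⟩).2 hi
      · exact he₁ t ht' ⟨i, hi⟩
    · rw [h2 i hi]
      have h3 : (e₂ ⟨i, hi⟩ : β) ∉ B m := (e₂ ⟨i, hi⟩).2
      rcases Finset.mem_insert.1 ht with rfl | ht'
      · exact iff_of_false h3 hi
      · exact iff_of_false (fun h4 => h3 (hBm t ht' h4)) fun h4 => hi (hAm t ht' h4)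

/-! ### blocks -/

section blocks

variable {n : ℕ} {ι : Type*} (bl : Fin n → Option ι)

/-- the blocks are intervals, the tail is at the end -/
structure Blk : Prop where
  conv : ∀ i j k : Fin n, i ≤ j → j ≤ k → bl i = bl k → bl j = bl i
  upper : ∀ i j : Fin n, i ≤ j → bl i = none → bl j = none
  surj : ∀ O : ι, ∃ i, bl i = some O

/-- the nodes inside the blocks and the tail -/
def JJ : Set (Fin n) := {k | bl k = none ∨ ∃ h : (k : ℕ) + 1 < n, bl k = bl ⟨k + 1, h⟩}

/-- the nodes inside the blocks -/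
def JP : Set (Fin n) := {k | bl k ≠ none ∧ ∃ h : (k : ℕ) + 1 < n, bl k = bl ⟨k + 1, h⟩}

variable {bl}

/-- constant along the nodes of the blocks: constant on the blocks -/
theorem const_of_step {β : Type*} (hb : Blk bl) {y : Fin n → β}
    (hy : ∀ (k : Fin n) (h : (k : ℕ) + 1 < n), k ∈ JP bl → y k = y ⟨k + 1, h⟩) {i j : Fin n} (hij : bl i = bl j)
    (hi : bl i ≠ none) : y i = y j := by
  have key : ∀ (d : ℕ) (i j : Fin n), (i : ℕ) + d = j → bl i = bl j → bl i ≠ none → y i = y j := by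
    intro d
    induction d with
    | zero =>
      intro i j h _ _
      rw [Fin.ext (by simpa using h : (i : ℕ) = j)]
    | succ d ih =>
      intro i j h hij hi
      have h1 : (i : ℕ) + 1 < n := by have := j.2; omega
      have h2 : bl ⟨i + 1, h1⟩ = bl i :=
        hb.conv i ⟨i + 1, h1⟩ j (by rw [Fin.le_def]; exact Nat.le_succ _)
          (by rw [Fin.le_def]; change (i : ℕ) + 1 ≤ j; omega) hij
      rw [hy i h1 ⟨hi, h1, h2.symm⟩]
      exact ih ⟨i + 1, h1⟩ j (by change (i : ℕ) + 1 + d = j; omega) (h2.trans hij) (by rw [h2]; exact hi)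
  rcases le_total i j with h | h
  · exact key (j - i) i j (by rw [Fin.le_def] at h; omega) hij hi
  · exact (key (i - j) j i (by rw [Fin.le_def] at h; omega) hij.symm (hij ▸ hi)).symm

/-- the last index of a block -/
theorem exists_last {i : Fin n} (hi : bl i ≠ none) : ∃ b : Fin n, i ≤ b ∧ bl b = bl i ∧ b ∉ JJ bl := by
  classical
  let s : Finset (Fin n) := Finset.univ.filter fun k => bl k = bl i
  have hs : s.Nonempty := ⟨i, Finset.mem_filter.2 ⟨Finset.mem_univ _, rfl⟩⟩
  have h1 := s.max'_mem hs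
  have h2 : bl (s.max' hs) = bl i := (Finset.mem_filter.1 h1).2
  refine ⟨s.max' hs, s.le_max' i (Finset.mem_filter.2 ⟨Finset.mem_univ _, rfl⟩), h2, ?_⟩
  rintro (h3 | ⟨h3, h4⟩)
  · exact hi (h2 ▸ h3)
  · have h5 := s.le_max' ⟨s.max' hs + 1, h3⟩ (Finset.mem_filter.2 ⟨Finset.mem_univ _, h4.symm.trans h2⟩)
    rw [Fin.le_def] at h5
    change (s.max' hs : ℕ) + 1 ≤ s.max' hs at h5
    omega

end blocks

/-! ### good elements -/

section good

variable {n : ℕ} {ι : Type*} {bl : Fin n → Option ι} {W : Type*} [Group W] (cs : CoxeterSystem (CoxeterMatrix.B n) W)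

/-- `w⁻¹ Φ_{J₁'}` is supported outside `T` -/
def Good (bl : Fin n → Option ι) (T : Set (Fin n)) (w : W) : Prop :=
  ∀ j ∈ JP bl, ∀ t ∈ T, rep cs (isCartan n) w⁻¹ (sr j) t = 0

theorem good_iff (hb : Blk bl) {T : Set (Fin n)} {w : W} :
    Good cs bl T w ↔ ∀ t ∈ T, ∀ i j, bl i = bl j → bl i ≠ none → yv cs w t i = yv cs w t j := by
  constructor
  · intro h t ht i j hij hi
    exact const_of_step hb (fun k hk hkJ => (coef_eq_zero_iff cs w hk t).1 (h k hkJ t ht)) hij hi
  · rintro h j ⟨hj, hj1, hj2⟩ t ht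
    exact (coef_eq_zero_iff cs w hj1 t).2 (h t ht _ _ hj2 hj)

/-- the elements of `W_{J₁}` preserve the blocks -/
theorem bl_ta (hb : Blk bl) {u : W} (hu : u ∈ Subgroup.closure (cs.simple '' JJ bl)) (i : Fin n) :
    bl (ta cs u i) = bl i ∧ (bl i ≠ none → de cs u i = true) := by
  have hu' : u ∈ stb cs (JJ bl)ᶜ := by
    rw [stb_eq, compl_compl]
    exact hu
  have h1 : ∀ b : Fin n, b ∉ JJ bl → ∀ i, (ta cs u i ≤ b ↔ i ≤ b) ∧ (i ≤ b → de cs u i = true) := by
    intro b hbJ i
    have h2 := hu' b hbJ i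
    rw [yv_one] at h2
    have h3 : ta cs u i ≤ b ↔ i ≤ b := by
      rw [← not_iff_not, ← yv_eq_none, h2]
      split_ifs with h3 <;> simp [h3]
    refine ⟨h3, fun h4 => ?_⟩
    rw [if_pos h4, yv, if_pos (h3.2 h4)] at h2
    exact Option.some.inj h2
  by_cases hi : bl i = none
  · refine ⟨?_, fun h => absurd hi h⟩
    rw [hi]
    by_contra h2
    obtain ⟨b, hb1, hb2, hb3⟩ := exists_last h2
    have h3 := ((h1 b hb3 i).1).1 hb1
    exact h2 (hb2 ▸ hb.upper i b h3 hi)
  · obtain ⟨b, hb1, hb2, hb3⟩ := exists_last hi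
    have h2 := ((h1 b hb3 i).1).2 hb1
    refine ⟨?_, fun _ => (h1 b hb3 i).2 hb1⟩
    by_contra h3
    have h4 : bl (ta cs u i) ≠ none := fun h5 => hi (hb2 ▸ hb.upper _ b h2 h5)
    obtain ⟨b', hb1', hb2', hb3'⟩ := exists_last h4
    have h5 := ((h1 b' hb3' i).1).1 hb1'
    -- `i ≤ b'` : contradiction
    rcases le_total (ta cs u i) i with h6 | h6
    · exact h3 (hb.conv (ta cs u i) i b' h6 h5 hb2'.symm).symm
    · exact h3 (hb.conv i (ta cs u i) b h6 h2 hb2.symm)

/-! ### codes -/

variable [Fintype ι] [DecidableEq ι]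

/-- the signs of the blocks -/
noncomputable def sgc (hb : Blk bl) (w : W) (t : Fin n) : Sg ι := fun O => yv cs w t (hb.surj O).choose

/-- the number of indices of the tail -/
noncomputable def xc (bl : Fin n → Option ι) (w : W) (t : Fin n) : ℕ :=
  Nat.card {i : Fin n // bl i = none ∧ yv cs w t i ≠ none}

theorem xc_le {v : ℕ} (hv : Nat.card {i : Fin n // bl i = none} = v) (w : W) (t : Fin n) : xc cs bl w t ≤ v := by
  rw [← hv]
  exact Nat.card_le_card_of_injective (fun i : {i : Fin n // bl i = none ∧ yv cs w t i ≠ none} =>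
    (⟨i.1, i.2.1⟩ : {i : Fin n // bl i = none})) fun i j h => Subtype.ext (congrArg (fun x => x.1) h)

/-- the code -/
noncomputable def cd (hb : Blk bl) (v : ℕ) (w : W) (t : Fin n) : Q v ι :=
  (⟨min (xc cs bl w t) v, by omega⟩, sgc cs hb w t)

theorem yv_eq_sgc (hb : Blk bl) {T : Set (Fin n)} {w : W} (hw : Good cs bl T w) {t : Fin n} (ht : t ∈ T) {i : Fin n} {O : ι}
    (hi : bl i = some O) : yv cs w t i = sgc cs hb w t O := by
  have h1 := (hb.surj O).choose_spec
  exact (good_iff cs hb).1 hw t ht _ _ (hi.trans h1.symm) (by rw [hi]; simp)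

/-- counting a set of indices by blocks -/
theorem card_split (d : ι → ℕ) (hd : ∀ O, Nat.card {i : Fin n // bl i = some O} = d O) (y : Fin n → Option Bool) (Y : Sg ι)
    (hy : ∀ i O, bl i = some O → y i = Y O) :
    Nat.card {i : Fin n // y i ≠ none} = Nat.card {i : Fin n // bl i = none ∧ y i ≠ none} + H636.LIN.wt d Y := by
  classical
  have h1 : ∀ p : Fin n → Prop, Nat.card {i : Fin n // p i} = (Finset.univ.filter p).card := fun p => by
    rw [Nat.card_eq_fintype_card, Fintype.card_subtype]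
  rw [h1, h1, Finset.card_eq_sum_card_fiberwise (f := bl) (t := Finset.univ) (fun _ _ => Finset.mem_coe.2 (Finset.mem_univ _)),
    Fintype.sum_option]
  congr 1
  · congr 1
    ext i
    simp only [Finset.mem_filter, Finset.mem_univ, true_and]
    exact and_comm
  · unfold H636.LIN.wt
    refine Finset.sum_congr rfl fun O _ => ?_
    split_ifs with h
    · rw [Finset.card_eq_zero, Finset.eq_empty_iff_forall_notMem]
      intro i hi
      simp only [Finset.mem_filter, Finset.mem_univ, true_and] at hi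
      exact hi.1 ((hy i O hi.2).trans h)
    · rw [← hd O, h1]
      congr 1
      ext i
      simp only [Finset.mem_filter, Finset.mem_univ, true_and]
      exact ⟨fun h2 => h2.2, fun h2 => ⟨fun h3 => h ((hy i O h2).symm.trans h3), h2⟩⟩

theorem dm_cd (hb : Blk bl) {v : ℕ} (hv : Nat.card {i : Fin n // bl i = none} = v) {d : ι → ℕ}
    (hd : ∀ O, Nat.card {i : Fin n // bl i = some O} = d O) {T : Set (Fin n)} {w : W} (hw : Good cs bl T w) {t : Fin n}
    (ht : t ∈ T) : dm d (cd cs hb v w t) = t + 1 := by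
  rw [← card_yv cs w t, card_split d hd (yv cs w t) (sgc cs hb w t) fun i O hi => yv_eq_sgc cs hb hw ht hi]
  have h1 : ((cd cs hb v w t).1 : ℕ) = xc cs bl w t := min_eq_left (xc_le cs hv w t)
  unfold dm
  rw [h1]
  rfl

theorem cd_mono (hb : Blk bl) {v : ℕ} (w : W) {s t : Fin n} (hst : s ≤ t) : cd cs hb v w s ≤ cd cs hb v w t := by
  refine Prod.mk_le_mk.2 ⟨?_, fun O => yv_mono cs w hst _⟩
  rw [Fin.le_def]
  refine min_le_min_right v ?_
  refine Nat.card_le_card_of_injective (fun i : {i : Fin n // bl i = none ∧ yv cs w s i ≠ none} =>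
    (⟨i.1, i.2.1, ?_⟩ : {i : Fin n // bl i = none ∧ yv cs w t i ≠ none})) fun i j h => Subtype.ext (congrArg (fun x => x.1) h)
  rcases yv_mono cs w hst i.1 with h | h
  · exact absurd h i.2.2
  · rw [← h]
    exact i.2.2

/-! ### codes and double cosets -/

/-- the double coset relation -/
def DCo (J K : Set (Fin n)) (w w' : W) : Prop :=
  ∃ u ∈ Subgroup.closure (cs.simple '' J), ∃ v ∈ Subgroup.closure (cs.simple '' K), w' = u * w * v

theorem cd_mul (hb : Blk bl) (v : ℕ) {T : Set (Fin n)} {w : W} (hw : Good cs bl T w) {u x : W}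
    (hu : u ∈ Subgroup.closure (cs.simple '' JJ bl)) (hx : x ∈ Subgroup.closure (cs.simple '' Tᶜ)) {t : Fin n} (ht : t ∈ T) :
    cd cs hb v (u * w * x) t = cd cs hb v w t := by
  have h1 : ∀ i, yv cs (u * w * x) t i = sb (de cs u i) (yv cs w t (ta cs u i)) := by
    intro i
    rw [← yv_mul]
    exact ((yv_eq_iff cs (w := u * w) (w' := u * w * x)).2 (by rwa [inv_mul_cancel_left]) t ht i).symm
  refine Prod.ext (Fin.ext ?_) (funext fun O => ?_)
  · change min (xc cs bl (u * w * x) t) v = min (xc cs bl w t) v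
    congr 1
    unfold xc
    refine Nat.card_congr ((Equiv.ofBijective _ (ta_bijective cs u)).subtypeEquiv fun i => ?_)
    change bl i = none ∧ yv cs (u * w * x) t i ≠ none ↔ bl (ta cs u i) = none ∧ yv cs w t (ta cs u i) ≠ none
    rw [(bl_ta cs hb hu i).1, h1, Ne, sb_eq_none]
  · change yv cs (u * w * x) t (hb.surj O).choose = yv cs w t (hb.surj O).choose
    have h2 := (hb.surj O).choose_spec
    have h3 : bl (hb.surj O).choose ≠ none := by rw [h2]; simp
    rw [h1, (bl_ta cs hb hu _).2 h3, sb_true]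
    exact (good_iff cs hb).1 hw t ht _ _ (bl_ta cs hb hu _).1 (by rw [(bl_ta cs hb hu _).1]; exact h3)

theorem good_mul (hb : Blk bl) {T : Set (Fin n)} {w : W} (hw : Good cs bl T w) {u x : W}
    (hu : u ∈ Subgroup.closure (cs.simple '' JJ bl)) (hx : x ∈ Subgroup.closure (cs.simple '' Tᶜ)) :
    Good cs bl T (u * w * x) := by
  rw [good_iff cs hb]
  intro t ht i j hij hi
  have h1 : ∀ i, yv cs (u * w * x) t i = sb (de cs u i) (yv cs w t (ta cs u i)) := by
    intro i
    rw [← yv_mul]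
    exact ((yv_eq_iff cs (w := u * w) (w' := u * w * x)).2 (by rwa [inv_mul_cancel_left]) t ht i).symm
  rw [h1, h1, (bl_ta cs hb hu i).2 hi, (bl_ta cs hb hu j).2 (hij ▸ hi), sb_true, sb_true]
  refine (good_iff cs hb).1 hw t ht _ _ ?_ ?_
  · rw [(bl_ta cs hb hu i).1, (bl_ta cs hb hu j).1, hij]
  · rw [(bl_ta cs hb hu i).1]
    exact hi

/-- **Equal codes: the same double coset.** -/
theorem dco_of_cd (hb : Blk bl) {v : ℕ} (hv : Nat.card {i : Fin n // bl i = none} = v) {T : Finset (Fin n)} {w w' : W}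
    (hw : Good cs bl (T : Set (Fin n)) w) (hw' : Good cs bl (T : Set (Fin n)) w')
    (h : ∀ t ∈ T, cd cs hb v w t = cd cs hb v w' t) : DCo cs (JJ bl) ((T : Set (Fin n))ᶜ) w w' := by
  classical
  -- a permutation of the tail
  have hx : ∀ t ∈ T, xc cs bl w t = xc cs bl w' t := by
    intro t ht
    have h1 : min (xc cs bl w t) v = min (xc cs bl w' t) v := congrArg (fun q : Q v ι => (q.1 : ℕ)) (h t ht)
    rwa [min_eq_left (xc_le cs hv w t), min_eq_left (xc_le cs hv w' t)] at h1
  have hs : ∀ t ∈ T, ∀ O, sgc cs hb w t O = sgc cs hb w' t O := fun t ht O =>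
    congrFun (congrArg (fun q : Q v ι => q.2) (h t ht)) O
  have hcard : ∀ (z : W) (t : Fin n), Nat.card ({i | yv cs z t i.1 ≠ none} : Set {i : Fin n // bl i = none}) = xc cs bl z t := by
    intro z t
    exact Nat.card_congr ⟨fun x => ⟨x.1.1, x.1.2, x.2⟩, fun x => ⟨⟨x.1, x.2.1⟩, x.2.2⟩, fun _ => rfl, fun _ => rfl⟩
  obtain ⟨e, he⟩ := exists_equiv_flag T {i : Fin n // bl i = none} {i : Fin n // bl i = none} rfl
    (fun t => {i | yv cs w' t i.1 ≠ none}) (fun t => {i | yv cs w t i.1 ≠ none})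
    (fun s _ t _ hst i hi => by
      rcases yv_mono cs w' hst i.1 with h1 | h1
      · exact absurd h1 hi
      · change yv cs w' t i.1 ≠ none
        rw [← h1]
        exact hi)
    (fun s _ t _ hst i hi => by
      rcases yv_mono cs w hst i.1 with h1 | h1
      · exact absurd h1 hi
      · change yv cs w t i.1 ≠ none
        rw [← h1]
        exact hi)
    (fun t ht => by rw [hcard, hcard, hx t ht])
  let τ : Equiv.Perm (Fin n) := Equiv.Perm.ofSubtype e
  have hτ1 : ∀ i (hi : bl i = none), τ i = (e ⟨i, hi⟩ : Fin n) := fun i hi => Equiv.Perm.ofSubtype_apply_of_mem e hi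
  have hτ2 : ∀ i, bl i ≠ none → τ i = i := fun i hi => Equiv.Perm.ofSubtype_apply_of_not_mem e hi
  let δ : Fin n → Bool := fun i => if bl i = none then (de cs w (τ i) == de cs w' i) else true
  obtain ⟨u, hu1, hu2⟩ := exists_of_perm cs τ δ
  have hyu : ∀ t ∈ T, ∀ i, yv cs (u * w) t i = yv cs w' t i := by
    intro t ht i
    rw [yv_mul, hu1, hu2]
    by_cases hi : bl i = none
    · have h1 : yv cs w t (τ i) ≠ none ↔ yv cs w' t i ≠ none := by
        rw [hτ1 i hi]
        exact he t ht ⟨i, hi⟩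
      by_cases h2 : yv cs w' t i = none
      · have h3 : yv cs w t (τ i) = none := by
          by_contra h3
          exact h1.1 h3 h2
        rw [h3, h2, sb_none]
      · have h3 := h1.2 h2
        have h4 : yv cs w t (τ i) = some (de cs w (τ i)) := by
          rw [Ne, yv_eq_none, not_not] at h3
          rw [yv, if_pos h3]
        have h5 : yv cs w' t i = some (de cs w' i) := by
          rw [yv_eq_none, not_not] at h2
          rw [yv, if_pos h2]
        rw [h4, h5]
        change sb (if bl i = none then (de cs w (τ i) == de cs w' i) else true) _ = _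
        rw [if_pos hi]
        cases de cs w (τ i) <;> cases de cs w' i <;> rfl
    · rw [hτ2 i hi]
      change sb (if bl i = none then (de cs w (τ i) == de cs w' i) else true) _ = _
      rw [if_neg hi, sb_true]
      obtain ⟨O, hO⟩ := Option.ne_none_iff_exists'.1 hi
      rw [yv_eq_sgc cs hb hw ht hO, yv_eq_sgc cs hb hw' ht hO]
      exact hs t ht O
  have huJ : u ∈ Subgroup.closure (cs.simple '' JJ bl) := by
    have h1 : u ∈ stb cs (JJ bl)ᶜ := by
      intro b hb1 i
      have hb2 : bl b ≠ none := fun h2 => hb1 (Or.inl h2)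
      rw [yv_one, yv, hu1, hu2]
      by_cases hi : bl i = none
      · have h2 : ¬ τ i ≤ b := fun h3 => hb2 (hb.upper _ b h3 (by rw [hτ1 i hi]; exact (e ⟨i, hi⟩).2))
        have h3 : ¬ i ≤ b := fun h3 => hb2 (hb.upper _ b h3 hi)
        rw [if_neg h2, if_neg h3]
      · rw [hτ2 i hi]
        change (if i ≤ b then some (if bl i = none then (de cs w (τ i) == de cs w' i) else true) else none) = _
        rw [if_neg hi]
    rwa [stb_eq, compl_compl] at h1
  refine ⟨u, huJ, (u * w)⁻¹ * w', (yv_eq_iff cs).1 hyu, ?_⟩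
  rw [mul_inv_cancel_left]

/-! ### surjectivity -/

/-- the flag of signed index sets of a chain -/
def yt {v : ℕ} (ρ : {i : Fin n // bl i = none} ≃ Fin v) (q : Q v ι) (i : Fin n) : Option Bool :=
  match hi : bl i with
  | none => if (ρ ⟨i, hi⟩ : ℕ) < q.1 then some true else none
  | some O => q.2 O

theorem yt_none {v : ℕ} (ρ : {i : Fin n // bl i = none} ≃ Fin v) (q : Q v ι) {i : Fin n} (hi : bl i = none) :
    yt ρ q i = if (ρ ⟨i, hi⟩ : ℕ) < q.1 then some true else none := by
  unfold yt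
  split
  · rfl
  · rename_i O hO
    rw [hi] at hO
    exact absurd hO (by simp)

theorem yt_some {v : ℕ} (ρ : {i : Fin n // bl i = none} ≃ Fin v) (q : Q v ι) {i : Fin n} {O : ι} (hi : bl i = some O) :
    yt ρ q i = q.2 O := by
  unfold yt
  split
  · rename_i h
    rw [hi] at h
    exact absurd h (by simp)
  · rename_i O' hO
    rw [hi] at hO
    rw [Option.some.inj hO]

theorem yt_mono {v : ℕ} (ρ : {i : Fin n // bl i = none} ≃ Fin v) {q q' : Q v ι} (h : q ≤ q') (i : Fin n) :
    yt ρ q i = none ∨ yt ρ q i = yt ρ q' i := by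
  rcases hi : bl i with _ | O
  · rw [yt_none ρ q hi, yt_none ρ q' hi]
    by_cases h1 : (ρ ⟨i, hi⟩ : ℕ) < q.1
    · right
      rw [if_pos h1, if_pos (lt_of_lt_of_le h1 (Fin.le_def.1 h.1))]
    · left
      rw [if_neg h1]
  · rw [yt_some ρ q hi, yt_some ρ q' hi]
    exact h.2 O

theorem card_yt_tail {v : ℕ} (ρ : {i : Fin n // bl i = none} ≃ Fin v) (q : Q v ι) :
    Nat.card {i : Fin n // bl i = none ∧ yt ρ q i ≠ none} = q.1 := by
  have e : {i : Fin n // bl i = none ∧ yt ρ q i ≠ none} ≃ {k : Fin v // (k : ℕ) < q.1} :=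
    { toFun := fun i => ⟨ρ ⟨i.1, i.2.1⟩, by
        have h := i.2.2
        rw [yt_none ρ q i.2.1] at h
        by_contra h1
        exact h (if_neg h1)⟩
      invFun := fun k => ⟨(ρ.symm k.1).1, (ρ.symm k.1).2, by
        rw [yt_none ρ q (ρ.symm k.1).2, if_pos]
        · simp
        · rw [Subtype.coe_eta, Equiv.apply_symm_apply]
          exact k.2⟩
      left_inv := fun i => Subtype.ext (by simp)
      right_inv := fun k => Subtype.ext (by simp) }
  rw [Nat.card_congr e]
  have hq : (q.1 : ℕ) ≤ v := Nat.le_of_lt_succ q.1.2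
  have e2 : {k : Fin v // (k : ℕ) < q.1} ≃ Fin q.1 :=
    { toFun := fun k => ⟨k.1, k.2⟩
      invFun := fun k => ⟨⟨k, lt_of_lt_of_le k.2 hq⟩, k.2⟩
      left_inv := fun _ => rfl
      right_inv := fun _ => rfl }
  rw [Nat.card_congr e2, Nat.card_eq_fintype_card, Fintype.card_fin]

/-- **Every chain of type `T` is the code of a good element.** -/
theorem exists_of_chain (hb : Blk bl) {v : ℕ} (hv : Nat.card {i : Fin n // bl i = none} = v) {d : ι → ℕ}
    (hd : ∀ O, Nat.card {i : Fin n // bl i = some O} = d O) {T : Finset (Fin n)} (q : Fin n → Q v ι)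
    (hq : ∀ t ∈ T, dm d (q t) = t + 1) (hqm : ∀ s ∈ T, ∀ t ∈ T, s ≤ t → q s ≤ q t) :
    ∃ w : W, Good cs bl (T : Set (Fin n)) w ∧ ∀ t ∈ T, cd cs hb v w t = q t := by
  classical
  obtain ⟨ρ⟩ : Nonempty ({i : Fin n // bl i = none} ≃ Fin v) := by
    refine Finite.card_eq.1 ?_
    rw [hv, Nat.card_eq_fintype_card, Fintype.card_fin]
  have hmono : ∀ s ∈ T, ∀ t ∈ T, s ≤ t → ∀ i, yt ρ (q s) i = none ∨ yt ρ (q s) i = yt ρ (q t) i :=
    fun s hs t ht hst i => yt_mono ρ (hqm s hs t ht hst) i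
  have hcard : ∀ t ∈ T, Nat.card {i : Fin n // yt ρ (q t) i ≠ none} = t + 1 := by
    intro t ht
    rw [card_split d hd (yt ρ (q t)) (q t).2 fun i O hi => yt_some ρ (q t) hi, card_yt_tail, ← hq t ht]
    rfl
  have hcard2 : ∀ t : Fin n, Nat.card ({i | i ≤ t} : Set (Fin n)) = t + 1 := by
    intro t
    have h := card_yv cs (1 : W) t
    rw [← h]
    refine Nat.card_congr (Equiv.subtypeEquivRight fun i => ?_)
    rw [Ne, yv_eq_none, ta_one, not_not]
    rfl
  obtain ⟨e, he⟩ := exists_equiv_flag T (Fin n) (Fin n) rfl (fun t => {i | yt ρ (q t) i ≠ none}) (fun t => {i | i ≤ t})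
    (fun s hs t ht hst i hi => by
      rcases hmono s hs t ht hst i with h1 | h1
      · exact absurd h1 hi
      · change yt ρ (q t) i ≠ none
        rw [← h1]
        exact hi)
    (fun s _ t _ hst i (hi : i ≤ s) => hi.trans hst)
    (fun t ht => by rw [hcard2]; exact hcard t ht)
  let δ : Fin n → Bool := fun i => if ∃ t ∈ T, yt ρ (q t) i = some false then false else true
  obtain ⟨w, hw1, hw2⟩ := exists_of_perm cs e δ
  have hyw : ∀ t ∈ T, ∀ i, yv cs w t i = yt ρ (q t) i := by
    intro t ht i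
    rw [yv, hw1, hw2]
    have h1 : e i ≤ t ↔ yt ρ (q t) i ≠ none := he t ht i
    by_cases h2 : yt ρ (q t) i = none
    · rw [if_neg (fun h3 => h1.1 h3 h2), h2]
    · rw [if_pos (h1.2 h2)]
      obtain ⟨b, hb2⟩ := Option.ne_none_iff_exists'.1 h2
      rw [hb2]
      congr 1
      change (if ∃ t ∈ T, yt ρ (q t) i = some false then false else true) = b
      cases b
      · rw [if_pos ⟨t, ht, hb2⟩]
      · rw [if_neg]
        rintro ⟨s, hs, h3⟩
        rcases le_total s t with h4 | h4
        · rcases hmono s hs t ht h4 i with h5 | h5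
          · rw [h3] at h5
            exact absurd h5 (by simp)
          · rw [h3, hb2] at h5
            exact absurd h5 (by simp)
        · rcases hmono t ht s hs h4 i with h5 | h5
          · exact h2 h5
          · rw [h3, hb2] at h5
            exact absurd h5 (by simp)
  have hgood : Good cs bl (T : Set (Fin n)) w := by
    rw [good_iff cs hb]
    intro t ht i j hij hi
    obtain ⟨O, hO⟩ := Option.ne_none_iff_exists'.1 hi
    rw [hyw t ht, hyw t ht, yt_some ρ (q t) hO, yt_some ρ (q t) (hij.symm.trans hO)]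
  refine ⟨w, hgood, fun t ht => Prod.ext (Fin.ext ?_) (funext fun O => ?_)⟩
  · change min (xc cs bl w t) v = (q t).1
    rw [min_eq_left (xc_le cs hv w t), ← card_yt_tail ρ (q t)]
    unfold xc
    simp only [hyw t ht]
  · change yv cs w t (hb.surj O).choose = (q t).2 O
    rw [hyw t ht, yt_some ρ (q t) (hb.surj O).choose_spec]

/-! ### the count -/

theorem card_eq_of_kernel {α β γ : Type*} (f : α → β) (g : α → γ) (hf : Function.Surjective f) (hg : Function.Surjective g)
    (h : ∀ a a', f a = f a' ↔ g a = g a') : Nat.card β = Nat.card γ := by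
  have e1 := Nat.card_congr (Setoid.quotientKerEquivOfSurjective f hf)
  have e2 := Nat.card_congr (Setoid.quotientKerEquivOfSurjective g hg)
  rw [← e1, ← e2]
  have e3 : Setoid.ker f = Setoid.ker g := Setoid.ext fun a b => h a b
  rw [e3]

/-- **The number of classes of good elements**: `g` any surjective map from the good elements whose fibres are the double
cosets of `W_{J₁}`, `W_{Tᶜ}`. -/
theorem card_of_kernel (hb : Blk bl) {v : ℕ} (hv : Nat.card {i : Fin n // bl i = none} = v) {d : ι → ℕ}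
    (hd : ∀ O, Nat.card {i : Fin n // bl i = some O} = d O) (hd0 : ∀ O, 0 < d O) (T : Finset (Fin n)) {γ : Type*}
    (g : {w : W // Good cs bl (T : Set (Fin n)) w} → γ) (hg : Function.Surjective g)
    (hk : ∀ w w', g w = g w' ↔ DCo cs (JJ bl) ((T : Set (Fin n))ᶜ) w.1 w'.1) :
    (Nat.card γ : ℤ) = nch (dm (v := v) d) T := by
  classical
  let s : Finset (Finset (Q v ι)) :=
    (chs (Finset.univ : Finset (Q v ι))).filter fun c => c.image (dm d) = T.image fun k : Fin n => (k : ℕ) + 1
  have hs : nch (dm (v := v) d) T = (s.card : ℤ) := by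
    unfold nch
    congr!
  -- the chain of a good element
  have hf0 : ∀ w : {w : W // Good cs bl (T : Set (Fin n)) w}, T.image (cd cs hb v w.1) ∈ s := by
    intro w
    refine Finset.mem_filter.2 ⟨mem_chs.2 ⟨Finset.subset_univ _, ?_⟩, ?_⟩
    · intro x hx y hy
      obtain ⟨a, -, rfl⟩ := Finset.mem_image.1 hx
      obtain ⟨b, -, rfl⟩ := Finset.mem_image.1 hy
      rcases le_total a b with h | h
      · exact Or.inl (cd_mono cs hb w.1 h)
      · exact Or.inr (cd_mono cs hb w.1 h)
    · rw [Finset.image_image]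
      refine Finset.image_congr fun t ht => ?_
      exact dm_cd cs hb hv hd w.2 ht
  let f : {w : W // Good cs bl (T : Set (Fin n)) w} → s := fun w => ⟨T.image (cd cs hb v w.1), hf0 w⟩
  have hfe : ∀ w w', f w = f w' ↔ ∀ t ∈ T, cd cs hb v w.1 t = cd cs hb v w'.1 t := by
    intro w w'
    constructor
    · intro h t ht
      have h1 : cd cs hb v w.1 t ∈ T.image (cd cs hb v w'.1) := by
        have h2 : T.image (cd cs hb v w.1) = T.image (cd cs hb v w'.1) := congrArg Subtype.val h
        rw [← h2]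
        exact Finset.mem_image_of_mem _ ht
      obtain ⟨r, hr, h2⟩ := Finset.mem_image.1 h1
      have h3 := dm_cd cs hb hv hd w.2 ht
      have h4 := dm_cd cs hb hv hd w'.2 hr
      rw [h2, h3] at h4
      have h5 : t = r := Fin.ext (by omega)
      rw [← h2, h5]
    · intro h
      exact Subtype.ext (Finset.image_congr fun t ht => h t ht)
  have hfs : Function.Surjective f := by
    rintro ⟨c, hc⟩
    obtain ⟨hc1, hc2⟩ := Finset.mem_filter.1 hc
    have hc3 := (mem_chs.1 hc1).2
    have h1 : ∀ t : Fin n, ∃ q : Q v ι, t ∈ T → q ∈ c ∧ dm d q = t + 1 := by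
      intro t
      by_cases ht : t ∈ T
      · have h2 : (t : ℕ) + 1 ∈ c.image (dm d) := by
          rw [hc2]
          exact Finset.mem_image_of_mem (fun k : Fin n => (k : ℕ) + 1) ht
        obtain ⟨q, hq1, hq2⟩ := Finset.mem_image.1 h2
        exact ⟨q, fun _ => ⟨hq1, hq2⟩⟩
      · exact ⟨(⟨0, by omega⟩, fun _ => none), fun h => absurd h ht⟩
    choose q hq using h1
    have hqm : ∀ s ∈ T, ∀ t ∈ T, s ≤ t → q s ≤ q t := by
      intro a ha b hb' hab
      rcases hc3 _ (hq a ha).1 _ (hq b hb').1 with h2 | h2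
      · exact h2
      · rcases h2.eq_or_lt with h3 | h3
        · exact h3.ge
        · have h4 := H636.LIN.dm_strictMono hd0 h3
          rw [(hq a ha).2, (hq b hb').2] at h4
          rw [Fin.le_def] at hab
          omega
    obtain ⟨w, hw1, hw2⟩ := exists_of_chain cs hb hv hd q (fun t ht => (hq t ht).2) hqm
    refine ⟨⟨w, hw1⟩, Subtype.ext ?_⟩
    change T.image (cd cs hb v w) = c
    rw [Finset.image_congr (g := q) fun t ht => hw2 t ht]
    refine Finset.Subset.antisymm ?_ ?_
    · intro x hx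
      obtain ⟨t, ht, rfl⟩ := Finset.mem_image.1 hx
      exact (hq t ht).1
    · intro x hx
      have h2 : dm d x ∈ T.image fun k : Fin n => (k : ℕ) + 1 := by
        rw [← hc2]
        exact Finset.mem_image_of_mem _ hx
      obtain ⟨t, ht, h3⟩ := Finset.mem_image.1 h2
      have h4 : q t = x := by
        have h5 : dm d (q t) = dm d x := by rw [(hq t ht).2]; exact h3
        rcases hc3 _ (hq t ht).1 _ hx with h6 | h6
        · rcases h6.eq_or_lt with h7 | h7
          · exact h7
          · exact absurd h5 (H636.LIN.dm_strictMono hd0 h7).ne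
        · rcases h6.eq_or_lt with h7 | h7
          · exact h7.symm
          · exact absurd h5 (H636.LIN.dm_strictMono hd0 h7).ne'
      exact Finset.mem_image.2 ⟨t, ht, h4⟩
  rw [hs, ← card_eq_of_kernel f g hfs hg fun w w' => ?_]
  · rw [Nat.card_eq_fintype_card, Fintype.card_coe]
  · rw [hfe, hk]
    constructor
    · exact dco_of_cd cs hb hv w.2 w'.2
    · rintro ⟨u, hu, x, hx, h⟩ t ht
      rw [h]
      exact (cd_mul cs hb v w.2 hu hx ht).symm

end good

/-! ### blocks of size `e` -/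

section blE

variable {n : ℕ}

/-- `w` blocks of size `e` -/
def blE (e w : ℕ) (i : Fin n) : Option (Fin w) :=
  if h : (i : ℕ) < e * w then some ⟨i / e, Nat.div_lt_of_lt_mul h⟩ else none

theorem blE_none {e w : ℕ} {i : Fin n} : blE e w i = none ↔ e * w ≤ (i : ℕ) := by
  unfold blE
  split_ifs with h
  · exact iff_of_false (by simp) (by omega)
  · exact iff_of_true rfl (by omega)

theorem blE_some {e w : ℕ} {i : Fin n} {O : Fin w} : blE e w i = some O ↔ (i : ℕ) < e * w ∧ (i : ℕ) / e = O := by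
  unfold blE
  split_ifs with h
  · rw [Option.some.injEq, Fin.ext_iff]
    exact ⟨fun h1 => ⟨h, h1⟩, fun h1 => h1.2⟩
  · exact iff_of_false (by simp) fun h1 => h h1.1

theorem blk_blE {e w : ℕ} (he : 0 < e) (hn : e * w ≤ n) : Blk (blE e w : Fin n → Option (Fin w)) where
  conv i j k hij hjk h := by
    rw [Fin.le_def] at hij hjk
    rcases hk : blE e w k with _ | O
    · rw [hk, blE_none] at h
      have h1 : blE e w j = none := blE_none.2 (by omega)
      rw [h1, blE_none.2 h]
    · rw [hk] at h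
      have h1 := blE_some.1 hk
      have h2 := blE_some.1 h
      have h3 : (i : ℕ) / e ≤ (j : ℕ) / e := Nat.div_le_div_right hij
      have h4 : (j : ℕ) / e ≤ (k : ℕ) / e := Nat.div_le_div_right hjk
      rw [h]
      exact blE_some.2 ⟨by omega, by omega⟩
  upper i j hij h := by
    rw [Fin.le_def] at hij
    rw [blE_none] at h ⊢
    omega
  surj O := by
    have h1 : e * O < e * w := Nat.mul_lt_mul_of_pos_left O.2 he
    exact ⟨⟨e * O, by omega⟩, blE_some.2 ⟨h1, Nat.mul_div_cancel_left _ he⟩⟩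

theorem card_blE_some {e w : ℕ} (he : 0 < e) (hn : e * w ≤ n) (O : Fin w) :
    Nat.card {i : Fin n // blE e w i = some O} = e := by
  have hO : e * O + e ≤ e * w := by
    have := Nat.mul_le_mul_left e (Nat.succ_le_of_lt O.2)
    rwa [Nat.mul_succ] at this
  have e1 : {i : Fin n // blE e w i = some O} ≃ Fin e :=
    { toFun := fun i => ⟨(i.1 : ℕ) % e, Nat.mod_lt _ he⟩
      invFun := fun k => ⟨⟨e * O + k, by have := k.2; omega⟩, blE_some.2 ⟨by have := k.2; change e * (O : ℕ) + k < e * w; omega, by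
        change (e * (O : ℕ) + k) / e = O
        rw [Nat.mul_add_div he, Nat.div_eq_of_lt k.2, add_zero]⟩⟩
      left_inv := fun i => Subtype.ext (Fin.ext (by
        change e * (O : ℕ) + (i.1 : ℕ) % e = i.1
        rw [← (blE_some.1 i.2).2]
        exact Nat.div_add_mod _ _))
      right_inv := fun k => Fin.ext (by
        change (e * (O : ℕ) + k) % e = k
        rw [Nat.mul_add_mod]
        exact Nat.mod_eq_of_lt k.2) }
  rw [Nat.card_congr e1, Nat.card_eq_fintype_card, Fintype.card_fin]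

theorem card_blE_none {e w v : ℕ} (hn : v + e * w = n) : Nat.card {i : Fin n // blE e w i = none} = v := by
  have e1 : {i : Fin n // blE e w i = none} ≃ Fin v :=
    { toFun := fun i => ⟨(i.1 : ℕ) - e * w, by have := i.1.2; have := blE_none.1 i.2; omega⟩
      invFun := fun k => ⟨⟨e * w + k, by have := k.2; omega⟩, blE_none.2 (Nat.le_add_right _ _)⟩
      left_inv := fun i => Subtype.ext (Fin.ext (by
        have := blE_none.1 i.2
        change e * w + ((i.1 : ℕ) - e * w) = i.1
        omega))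
      right_inv := fun k => Fin.ext (by
        change e * w + (k : ℕ) - e * w = k
        omega) }
  rw [Nat.card_congr e1, Nat.card_eq_fintype_card, Fintype.card_fin]

theorem blE_succ {e w : ℕ} {k : Fin n} (h : (k : ℕ) + 1 < n) (hk : (k : ℕ) < e * w) :
    blE e w k = blE e w ⟨k + 1, h⟩ ↔ ¬ e ∣ (k : ℕ) + 1 := by
  have h1 : blE e w k = some ⟨k / e, Nat.div_lt_of_lt_mul hk⟩ := blE_some.2 ⟨hk, rfl⟩
  rw [h1, eq_comm, blE_some]
  change ((k : ℕ) + 1 < e * w ∧ ((k : ℕ) + 1) / e = (k : ℕ) / e) ↔ _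
  have h2 : ((k : ℕ) + 1) / e = (k : ℕ) / e + if e ∣ (k : ℕ) + 1 then 1 else 0 := Nat.succ_div
  constructor
  · rintro ⟨h3, h4⟩ h5
    rw [h4, if_pos h5] at h2
    omega
  · intro h3
    rw [if_neg h3, add_zero] at h2
    refine ⟨?_, h2⟩
    have h4 : (k : ℕ) + 1 ≠ e * w := fun h5 => h3 (h5 ▸ Dvd.intro w rfl)
    omega

theorem JP_blE {e w : ℕ} (hn : e * w ≤ n) :
    JP (blE e w : Fin n → Option (Fin w)) = {k : Fin n | (k : ℕ) < e * w ∧ ¬ e ∣ (k : ℕ) + 1} := by
  ext k
  constructor
  · rintro ⟨h1, h2, h3⟩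
    have h4 : (k : ℕ) < e * w := not_le.1 fun h => h1 (blE_none.2 h)
    exact ⟨h4, (blE_succ h2 h4).1 h3⟩
  · rintro ⟨h1, h2⟩
    have h4 : (k : ℕ) + 1 ≠ e * w := fun h5 => h2 (h5 ▸ Dvd.intro w rfl)
    have h5 : (k : ℕ) + 1 < n := by omega
    exact ⟨fun h => absurd (blE_none.1 h) (not_le.2 h1), h5, (blE_succ h5 h1).2 h2⟩

theorem JJ_blE {e w : ℕ} (hn : e * w ≤ n) :
    JJ (blE e w : Fin n → Option (Fin w)) = {k : Fin n | e * w ≤ (k : ℕ) ∨ ¬ e ∣ (k : ℕ) + 1} := by
  ext k
  constructor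
  · rintro (h | ⟨h2, h3⟩)
    · exact Or.inl (blE_none.1 h)
    · rcases le_or_gt (e * w) (k : ℕ) with h4 | h4
      · exact Or.inl h4
      · exact Or.inr ((blE_succ h2 h4).1 h3)
  · rintro (h | h)
    · exact Or.inl (blE_none.2 h)
    · rcases le_or_gt (e * w) (k : ℕ) with h4 | h4
      · exact Or.inl (blE_none.2 h4)
      · have h5 : (k : ℕ) + 1 ≠ e * w := fun h6 => h (h6 ▸ Dvd.intro w rfl)
        have h6 : (k : ℕ) + 1 < n := by omega
        exact Or.inr ⟨h6, (blE_succ h6 h4).2 h⟩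

variable {W : Type*} [Group W] (cs : CoxeterSystem (CoxeterMatrix.B n) W)

/-- **(L-b)**: `J₁' = {k < e w : e ∤ k + 1}`, `J₁ = J₁' ∪ {k ≥ e w}`: the number of double cosets `W_{J₁} x W_{Tᶜ}` with
`x⁻¹ Φ_{J₁'} ⊆ Φ_{Tᶜ}` is the number of chains of type `T`; `γ`: any set of representatives. -/
theorem card_cells {e w v : ℕ} (he : 0 < e) (hn : v + e * w = n) (T : Finset (Fin n)) {γ : Type*}
    (g : {x : W // ∀ j : Fin n, (j : ℕ) < e * w → ¬ e ∣ (j : ℕ) + 1 → ∀ t ∈ T, rep cs (isCartan n) x⁻¹ (sr j) t = 0} → γ)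
    (hg : Function.Surjective g)
    (hk : ∀ x y, g x = g y ↔ ∃ a ∈ Subgroup.closure (cs.simple '' {k : Fin n | e * w ≤ (k : ℕ) ∨ ¬ e ∣ (k : ℕ) + 1}),
      ∃ b ∈ Subgroup.closure (cs.simple '' (T : Set (Fin n))ᶜ), y.1 = a * x.1 * b) :
    (Nat.card γ : ℤ) = nch (dm (v := v) fun _ : Fin w => e) T := by
  have hn' : e * w ≤ n := by omega
  have h1 : ∀ x : W, Good cs (blE e w : Fin n → Option (Fin w)) (T : Set (Fin n)) x ↔
      ∀ j : Fin n, (j : ℕ) < e * w → ¬ e ∣ (j : ℕ) + 1 → ∀ t ∈ T, rep cs (isCartan n) x⁻¹ (sr j) t = 0 := by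
    intro x
    unfold Good
    rw [JP_blE hn']
    exact ⟨fun h j h1 h2 => h j ⟨h1, h2⟩, fun h j h1 => h j h1.1 h1.2⟩
  let E := Equiv.subtypeEquivRight h1
  refine card_of_kernel cs (blk_blE he hn') (card_blE_none hn) (fun O => card_blE_some he hn' O) (fun _ => he) T
    (fun x => g (E x)) (hg.comp E.surjective) fun x y => ?_
  rw [hk, JJ_blE hn']
  rfl

end blE

end Cfsg.Agent.H236.XZ
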