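import Cfsg.Agent.H236.XZ.Cells
import Cfsg.Agent.H636.LIN.DD
import Cfsg.Agent.H493.CC.CoxD

/-!
# The cells of `W(D_n)` and chains of signed subsets (helper236, for S4791 / S4927, boxes (L-b), type `D`)

The double cosets in `W(B_n)` of the even part of `W_{J₁}` and of `W_{Tᶜ}`.

* `card_of_code` : the count of the classes from the codes;
* `pr_eq` : the parity of an element in terms of `de`;
* `card_cells_D` (`V₀ ≠ 0`), `card_cells_D0` (`V₀ = 0`).
-/

set_option autoImplicit false
set_option linter.unusedSectionVars false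

namespace Cfsg.Agent.H236.XZ

open Cfsg Cfsg.Agent.ChevalleyStructure.CoxeterGeom Cfsg.Agent.Tits.Roots Cfsg.Agent.Nodes.TypeC Cfsg.Agent.H215.WB
open CoxeterSystem
open Cfsg.Agent.H636.LIN (Sg Q QD Tp dm ddm tdim low top nch chs mem_chs)

/-! ### counting by codes -/

/-- **The number of classes from the codes.** -/
theorem card_of_code {n : ℕ} {R : Type*} [Fintype R] [DecidableEq R] [PartialOrder R] [DecidableLE R] [DecidableLT R]
    {D : R → ℕ} (hD : ∀ x y : R, x < y → D x < D y) [Nonempty R] {α γ : Type*} (T : Finset (Fin n)) (code : α → Fin n → R)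
    (h1 : ∀ a, ∀ t ∈ T, D (code a t) = t + 1) (h2 : ∀ a, ∀ s ∈ T, ∀ t ∈ T, s ≤ t → code a s ≤ code a t)
    (h3 : ∀ q : Fin n → R, (∀ t ∈ T, D (q t) = t + 1) → (∀ s ∈ T, ∀ t ∈ T, s ≤ t → q s ≤ q t) →
      ∃ a, ∀ t ∈ T, code a t = q t)
    (g : α → γ) (hg : Function.Surjective g) (hk : ∀ a a', g a = g a' ↔ ∀ t ∈ T, code a t = code a' t) :
    (Nat.card γ : ℤ) = nch D T := by
  classical
  let s : Finset (Finset R) :=
    (chs (Finset.univ : Finset R)).filter fun c => c.image D = T.image fun k : Fin n => (k : ℕ) + 1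
  have hs : nch D T = (s.card : ℤ) := by
    unfold nch
    congr!
  have hf0 : ∀ w : α, T.image (code w) ∈ s := by
    intro w
    refine Finset.mem_filter.2 ⟨mem_chs.2 ⟨Finset.subset_univ _, ?_⟩, ?_⟩
    · intro x hx y hy
      obtain ⟨a, ha, rfl⟩ := Finset.mem_image.1 hx
      obtain ⟨b, hb, rfl⟩ := Finset.mem_image.1 hy
      rcases le_total a b with h | h
      · exact Or.inl (h2 w a ha b hb h)
      · exact Or.inr (h2 w b hb a ha h)
    · rw [Finset.image_image]
      exact Finset.image_congr fun t ht => h1 w t ht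
  let f : α → s := fun w => ⟨T.image (code w), hf0 w⟩
  have hfe : ∀ w w', f w = f w' ↔ ∀ t ∈ T, code w t = code w' t := by
    intro w w'
    constructor
    · intro h t ht
      have h4 : code w t ∈ T.image (code w') := by
        have h5 : T.image (code w) = T.image (code w') := congrArg Subtype.val h
        rw [← h5]
        exact Finset.mem_image_of_mem _ ht
      obtain ⟨r, hr, h5⟩ := Finset.mem_image.1 h4
      have h6 := h1 w t ht
      have h7 := h1 w' r hr
      rw [h5, h6] at h7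
      have h8 : t = r := Fin.ext (by omega)
      rw [← h5, h8]
    · intro h
      exact Subtype.ext (Finset.image_congr fun t ht => h t ht)
  have hfs : Function.Surjective f := by
    rintro ⟨c, hc⟩
    obtain ⟨hc1, hc2⟩ := Finset.mem_filter.1 hc
    have hc3 := (mem_chs.1 hc1).2
    have h4 : ∀ t : Fin n, ∃ q : R, t ∈ T → q ∈ c ∧ D q = t + 1 := by
      intro t
      by_cases ht : t ∈ T
      · have h5 : (t : ℕ) + 1 ∈ c.image D := by
          rw [hc2]
          exact Finset.mem_image_of_mem (fun k : Fin n => (k : ℕ) + 1) ht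
        obtain ⟨q, hq1, hq2⟩ := Finset.mem_image.1 h5
        exact ⟨q, fun _ => ⟨hq1, hq2⟩⟩
      · exact ⟨Classical.arbitrary R, fun h => absurd h ht⟩
    choose q hq using h4
    have hqm : ∀ s ∈ T, ∀ t ∈ T, s ≤ t → q s ≤ q t := by
      intro a ha b hb hab
      rcases hc3 _ (hq a ha).1 _ (hq b hb).1 with h5 | h5
      · exact h5
      · rcases h5.eq_or_lt with h6 | h6
        · exact h6.ge
        · have h7 := hD _ _ h6
          rw [(hq a ha).2, (hq b hb).2] at h7
          rw [Fin.le_def] at hab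
          omega
    obtain ⟨w, hw⟩ := h3 q (fun t ht => (hq t ht).2) hqm
    refine ⟨w, Subtype.ext ?_⟩
    change T.image (code w) = c
    rw [Finset.image_congr (g := q) fun t ht => hw t ht]
    refine Finset.Subset.antisymm ?_ ?_
    · intro x hx
      obtain ⟨t, ht, rfl⟩ := Finset.mem_image.1 hx
      exact (hq t ht).1
    · intro x hx
      have h5 : D x ∈ T.image fun k : Fin n => (k : ℕ) + 1 := by
        rw [← hc2]
        exact Finset.mem_image_of_mem _ hx
      obtain ⟨t, ht, h6⟩ := Finset.mem_image.1 h5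
      have h7 : q t = x := by
        have h8 : D (q t) = D x := by rw [(hq t ht).2]; exact h6
        rcases hc3 _ (hq t ht).1 _ hx with h9 | h9
        · rcases h9.eq_or_lt with h10 | h10
          · exact h10
          · exact absurd h8 (hD _ _ h10).ne
        · rcases h9.eq_or_lt with h10 | h10
          · exact h10.symm
          · exact absurd h8 (hD _ _ h10).ne'
      exact Finset.mem_image.2 ⟨t, ht, h7⟩
  rw [hs, ← card_eq_of_kernel f g hfs hg fun w w' => (hfe w w').trans (hk w w').symm]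
  rw [Nat.card_eq_fintype_card, Fintype.card_coe]

/-! ### the parity -/

section parity

variable {n : ℕ} {W : Type*} [Group W] (cs : CoxeterSystem (CoxeterMatrix.B n) W)

/-- the parity -/
noncomputable def pr : W →* ℤˣ := (H493.CC.par).comp (homB cs)

/-- the sign of a Boolean -/
def sg1 (b : Bool) : ℤˣ := if b then 1 else -1

theorem sg1_true : sg1 true = 1 := rfl

theorem sg1_false : sg1 false = -1 := rfl

theorem sg1_inj {a b : Bool} (h : sg1 a = sg1 b) : a = b := by
  cases a <;> cases b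
  · rfl
  · exact absurd h (by decide)
  · exact absurd h (by decide)
  · rfl

theorem pr_eq (u : W) : pr cs u = ∏ i, sg1 (de cs u i) := by
  have h1 : pr cs u = pr cs u⁻¹ := by
    rw [map_inv]
    exact (Int.units_inv_eq_self _).symm
  rw [h1]
  change ∏ a, (homB cs u⁻¹).left a = _
  rw [← Equiv.prod_comp (homB cs u⁻¹).right]
  refine Finset.prod_congr rfl fun i _ => ?_
  have h2 : de cs u i = bx ((homB cs u⁻¹).left ((homB cs u⁻¹).right i)) true := rfl
  rw [h2]
  rcases Int.units_eq_one_or ((homB cs u⁻¹).left ((homB cs u⁻¹).right i)) with h | h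
  · rw [h, bx_one]
    rfl
  · rw [h, bx_neg]
    rfl

theorem sg1_de_mul (u w : W) (i : Fin n) : sg1 (de cs (u * w) i) = sg1 (de cs u i) * sg1 (de cs w (ta cs u i)) := by
  rw [de_mul]
  cases de cs u i <;> cases de cs w (ta cs u i) <;> rfl

end parity

/-! ### codes of type `D` -/

section codes

variable {n : ℕ} {ι : Type*} {bl : Fin n → Option ι} {W : Type*} [Group W] (cs : CoxeterSystem (CoxeterMatrix.B n) W)
variable [Fintype ι] [DecidableEq ι]

/-- the product of the signs of the tail -/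
noncomputable def sgt (bl : Fin n → Option ι) (w : W) : ℤˣ :=
  ∏ i ∈ Finset.univ.filter (fun i => bl i = none), sg1 (de cs w i)

/-- the code of type `D` -/
noncomputable def cdD (hb : Blk bl) (v : ℕ) (w : W) (t : Fin n) : QD v ι :=
  (if h : xc cs bl w t < v then low ⟨xc cs bl w t, h⟩ else top (decide (sgt cs bl w = 1)), sgc cs hb w t)

theorem pr_eq_tail (hb : Blk bl) {u : W} (hu : u ∈ Subgroup.closure (cs.simple '' JJ bl)) : pr cs u = sgt cs bl u := by
  rw [pr_eq]
  unfold sgt
  symm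
  refine Finset.prod_subset (Finset.subset_univ _) fun i _ hi => ?_
  have h1 : bl i ≠ none := fun h => hi (Finset.mem_filter.2 ⟨Finset.mem_univ _, h⟩)
  rw [(bl_ta cs hb hu i).2 h1, sg1_true]

theorem tdim_cdD (hb : Blk bl) {v : ℕ} (hv : Nat.card {i : Fin n // bl i = none} = v) (w : W) (t : Fin n) :
    tdim (cdD cs hb v w t).1 = xc cs bl w t := by
  unfold cdD
  have h1 := xc_le cs hv w t
  by_cases h : xc cs bl w t < v
  · rw [dif_pos h]
    rfl
  · rw [dif_neg h]
    change v = _
    omega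

theorem ddm_cdD (hb : Blk bl) {v : ℕ} (hv : Nat.card {i : Fin n // bl i = none} = v) {d : ι → ℕ}
    (hd : ∀ O, Nat.card {i : Fin n // bl i = some O} = d O) {T : Set (Fin n)} {w : W} (hw : Good cs bl T w) {t : Fin n}
    (ht : t ∈ T) : ddm d (cdD cs hb v w t) = t + 1 := by
  rw [← dm_cd cs hb hv hd hw ht]
  unfold ddm dm
  rw [tdim_cdD cs hb hv]
  have h1 : ((cd cs hb v w t).1 : ℕ) = xc cs bl w t := min_eq_left (xc_le cs hv w t)
  rw [h1]
  rfl

theorem xc_mono (w : W) {s t : Fin n} (hst : s ≤ t) : xc cs bl w s ≤ xc cs bl w t := by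
  refine Nat.card_le_card_of_injective (fun i : {i : Fin n // bl i = none ∧ yv cs w s i ≠ none} =>
    (⟨i.1, i.2.1, ?_⟩ : {i : Fin n // bl i = none ∧ yv cs w t i ≠ none})) fun i j h => Subtype.ext (congrArg (fun x => x.1) h)
  rcases yv_mono cs w hst i.1 with h | h
  · exact absurd h i.2.2
  · rw [← h]
    exact i.2.2

theorem cdD_mono (hb : Blk bl) {v : ℕ} (hv : Nat.card {i : Fin n // bl i = none} = v) (w : W) {s t : Fin n} (hst : s ≤ t) :
    cdD cs hb v w s ≤ cdD cs hb v w t := by
  refine Prod.mk_le_mk.2 ⟨?_, fun O => yv_mono cs w hst _⟩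
  have h1 := xc_mono cs (bl := bl) w hst
  rcases h1.eq_or_lt with h2 | h2
  · left
    simp only [h2]
  · right
    have h3 := tdim_cdD cs hb hv w s
    have h4 := tdim_cdD cs hb hv w t
    unfold cdD at h3 h4
    simp only at h3 h4
    rw [h3, h4]
    exact h2

/-- a full tail -/
theorem full_iff {v : ℕ} (hv : Nat.card {i : Fin n // bl i = none} = v) (w : W) (t : Fin n) :
    ¬ xc cs bl w t < v ↔ ∀ i, bl i = none → yv cs w t i ≠ none := by
  have h0 := xc_le cs hv w t
  let F : {i : Fin n // bl i = none ∧ yv cs w t i ≠ none} → {i : Fin n // bl i = none} := fun i => ⟨i.1, i.2.1⟩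
  have hF : Function.Injective F := fun i j h => Subtype.ext (congrArg (fun x => x.1) h)
  constructor
  · intro h i hi
    have h1 : Nat.card {i : Fin n // bl i = none} ≤ Nat.card {i : Fin n // bl i = none ∧ yv cs w t i ≠ none} := by
      rw [hv]
      exact not_lt.1 h
    have hs : Function.Surjective F :=
      ((Nat.bijective_iff_injective_and_card F).2 ⟨hF, le_antisymm (Nat.card_le_card_of_injective F hF) h1⟩).2
    obtain ⟨j, hj⟩ := hs ⟨i, hi⟩
    have h2 : j.1 = i := congrArg (fun x => x.1) hj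
    rw [← h2]
    exact j.2.2
  · intro h
    have hs : Function.Surjective F := fun i => ⟨⟨i.1, i.2, h i.1 i.2⟩, rfl⟩
    have h1 := Nat.card_le_card_of_surjective F hs
    rw [hv] at h1
    exact not_lt.2 h1

/-- the tail signs of a product, full tail -/
theorem sgt_mul (hb : Blk bl) {v : ℕ} (hv : Nat.card {i : Fin n // bl i = none} = v) {T : Set (Fin n)} {w : W}
    {u x : W} (hu : u ∈ Subgroup.closure (cs.simple '' JJ bl)) (hx : x ∈ Subgroup.closure (cs.simple '' Tᶜ)) {t : Fin n}
    (ht : t ∈ T) (hf : ¬ xc cs bl w t < v) : sgt cs bl (u * w * x) = pr cs u * sgt cs bl w := by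
  have h1 : ∀ i, yv cs (u * w * x) t i = sb (de cs u i) (yv cs w t (ta cs u i)) := by
    intro i
    rw [← yv_mul]
    exact ((yv_eq_iff cs (w := u * w) (w' := u * w * x)).2 (by rwa [inv_mul_cancel_left]) t ht i).symm
  have h2 := (full_iff cs hv w t).1 hf
  have h3 : ∀ i, bl i = none → sg1 (de cs (u * w * x) i) = sg1 (de cs u i) * sg1 (de cs w (ta cs u i)) := by
    intro i hi
    have h4 : yv cs w t (ta cs u i) ≠ none := h2 _ (by rw [(bl_ta cs hb hu i).1]; exact hi)
    have h5 : yv cs (u * w * x) t i ≠ none := by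
      rw [h1, Ne, sb_eq_none]
      exact h4
    have h6 : yv cs w t (ta cs u i) = some (de cs w (ta cs u i)) := by
      rw [Ne, yv_eq_none, not_not] at h4
      rw [yv, if_pos h4]
    have h7 : yv cs (u * w * x) t i = some (de cs (u * w * x) i) := by
      rw [Ne, yv_eq_none, not_not] at h5
      rw [yv, if_pos h5]
    have h8 := h1 i
    rw [h6, h7] at h8
    have h9 : de cs (u * w * x) i = if de cs u i then de cs w (ta cs u i) else !de cs w (ta cs u i) := Option.some.inj h8
    rw [h9]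
    cases de cs u i <;> cases de cs w (ta cs u i) <;> rfl
  rw [pr_eq_tail cs hb hu]
  unfold sgt
  rw [Finset.prod_congr rfl fun i hi => h3 i (Finset.mem_filter.1 hi).2, Finset.prod_mul_distrib]
  congr 1
  refine Finset.prod_bij (fun i _ => ta cs u i) ?_ ?_ ?_ ?_
  · intro i hi
    refine Finset.mem_filter.2 ⟨Finset.mem_univ _, ?_⟩
    rw [(bl_ta cs hb hu i).1]
    exact (Finset.mem_filter.1 hi).2
  · intro i _ j _ h
    exact (ta_bijective cs u).1 h
  · intro j hj
    obtain ⟨i, rfl⟩ := (ta_bijective cs u).2 j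
    refine ⟨i, Finset.mem_filter.2 ⟨Finset.mem_univ _, ?_⟩, rfl⟩
    rw [← (bl_ta cs hb hu i).1]
    exact (Finset.mem_filter.1 hj).2
  · intro i _
    rfl

theorem xc_mul (hb : Blk bl) {v : ℕ} (hv : Nat.card {i : Fin n // bl i = none} = v) {T : Set (Fin n)} {w : W}
    (hw : Good cs bl T w) {u x : W} (hu : u ∈ Subgroup.closure (cs.simple '' JJ bl))
    (hx : x ∈ Subgroup.closure (cs.simple '' Tᶜ)) {t : Fin n} (ht : t ∈ T) :
    xc cs bl (u * w * x) t = xc cs bl w t ∧ sgc cs hb (u * w * x) t = sgc cs hb w t := by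
  have h1 := cd_mul cs hb v hw hu hx ht
  have h2 : min (xc cs bl (u * w * x) t) v = min (xc cs bl w t) v := congrArg (fun q : Q v ι => (q.1 : ℕ)) h1
  rw [min_eq_left (xc_le cs hv _ t), min_eq_left (xc_le cs hv w t)] at h2
  exact ⟨h2, congrArg (fun q : Q v ι => q.2) h1⟩

theorem cdD_mul (hb : Blk bl) {v : ℕ} (hv : Nat.card {i : Fin n // bl i = none} = v) {T : Set (Fin n)} {w : W}
    (hw : Good cs bl T w) {u x : W} (hu : u ∈ Subgroup.closure (cs.simple '' JJ bl)) (hu1 : pr cs u = 1)
    (hx : x ∈ Subgroup.closure (cs.simple '' Tᶜ)) {t : Fin n} (ht : t ∈ T) :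
    cdD cs hb v (u * w * x) t = cdD cs hb v w t := by
  obtain ⟨h1, h2⟩ := xc_mul cs hb hv hw hu hx ht
  unfold cdD
  refine Prod.ext ?_ h2
  by_cases h3 : xc cs bl w t < v
  · simp only [h1]
    rw [dif_pos h3, dif_pos h3]
  · simp only [h1]
    rw [dif_neg h3, dif_neg h3, sgt_mul cs hb hv hu hx ht h3, hu1, one_mul]

/-- the sign change of a tail index -/
theorem exists_change (hb : Blk bl) {i₀ : Fin n} (hi : bl i₀ = none) : ∃ c : W,
    c ∈ Subgroup.closure (cs.simple '' JJ bl) ∧ pr cs c = -1 ∧ (∀ i, ta cs c i = i) ∧ ∀ i, de cs c i = decide (i ≠ i₀) := by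
  obtain ⟨c, hc1, hc2⟩ := exists_of_perm cs (1 : Equiv.Perm (Fin n)) fun i => decide (i ≠ i₀)
  refine ⟨c, ?_, ?_, fun i => by rw [hc1]; rfl, fun i => by rw [hc2]⟩
  · have h1 : c ∈ stb cs (JJ bl)ᶜ := by
      intro b hb1 i
      have hb2 : bl b ≠ none := fun h2 => hb1 (Or.inl h2)
      rw [yv_one, yv, hc1, hc2]
      change (if i ≤ b then some (decide (i ≠ i₀)) else none) = _
      by_cases h2 : i ≤ b
      · rw [if_pos h2, if_pos h2]
        have h3 : i ≠ i₀ := fun e => hb2 (hb.upper i₀ b (e ▸ h2) hi)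
        rw [decide_eq_true h3]
      · rw [if_neg h2, if_neg h2]
    rwa [stb_eq, compl_compl] at h1
  · rw [pr_eq, hc2, Finset.prod_eq_single i₀]
    · simp [sg1]
    · intro i _ h
      change sg1 (decide (i ≠ i₀)) = 1
      rw [decide_eq_true h, sg1_true]
    · intro h
      exact absurd (Finset.mem_univ _) h

/-- **Equal codes of type `D`: the same class.** -/
theorem dco_of_cdD (hb : Blk bl) {v : ℕ} (hv : Nat.card {i : Fin n // bl i = none} = v) (hv0 : 0 < v) {T : Finset (Fin n)}
    {w w' : W} (hw : Good cs bl (T : Set (Fin n)) w) (hw' : Good cs bl (T : Set (Fin n)) w')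
    (h : ∀ t ∈ T, cdD cs hb v w t = cdD cs hb v w' t) :
    ∃ u ∈ Subgroup.closure (cs.simple '' JJ bl), pr cs u = 1 ∧ ∃ x ∈ Subgroup.closure (cs.simple '' (T : Set (Fin n))ᶜ),
      w' = u * w * x := by
  classical
  have hx : ∀ t ∈ T, xc cs bl w t = xc cs bl w' t := by
    intro t ht
    rw [← tdim_cdD cs hb hv w t, ← tdim_cdD cs hb hv w' t, h t ht]
  have hcd : ∀ t ∈ T, cd cs hb v w t = cd cs hb v w' t := by
    intro t ht
    refine Prod.ext (Fin.ext ?_) ?_
    · change min (xc cs bl w t) v = min (xc cs bl w' t) v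
      rw [hx t ht]
    · exact congrArg (fun q : QD v ι => q.2) (h t ht)
  obtain ⟨u, hu, x, hx1, he⟩ := dco_of_cd cs hb hv hw hw' hcd
  rcases Int.units_eq_one_or (pr cs u) with hu1 | hu1
  · exact ⟨u, hu, hu1, x, hx1, he⟩
  · by_cases hA : ∃ t ∈ T, ¬ xc cs bl w t < v
    · exfalso
      obtain ⟨t, ht, hf⟩ := hA
      have h1 := sgt_mul cs hb hv hu hx1 ht hf
      rw [← he, hu1] at h1
      have h2 : (cdD cs hb v w t).1 = (cdD cs hb v w' t).1 := by rw [h t ht]
      have hf' : ¬ xc cs bl w' t < v := by rw [← hx t ht]; exact hf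
      unfold cdD at h2
      simp only at h2
      rw [dif_neg hf, dif_neg hf'] at h2
      have h3 : decide (sgt cs bl w = 1) = decide (sgt cs bl w' = 1) := H636.LIN.top_inj h2
      rw [h1] at h3
      rcases Int.units_eq_one_or (sgt cs bl w) with h4 | h4
      · rw [h4] at h3
        exact absurd h3 (by decide)
      · rw [h4] at h3
        exact absurd h3 (by decide)
    · push Not at hA
      -- a tail index outside all sets
      obtain ⟨i₀, hi0, hi1⟩ : ∃ i₀, bl i₀ = none ∧ ∀ t ∈ T, yv cs w t i₀ = none := by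
        by_cases hT : T.Nonempty
        · have h1 := hA _ (T.max'_mem hT)
          have h2 : ¬ ∀ i, bl i = none → yv cs w (T.max' hT) i ≠ none := fun h3 => (full_iff cs hv w _).2 h3 h1
          push Not at h2
          obtain ⟨i, hi, hi2⟩ := h2
          refine ⟨i, hi, fun t ht => ?_⟩
          rcases yv_mono cs w (T.le_max' t ht) i with h3 | h3
          · exact h3
          · rw [h3, hi2]
        · have h1 : Nonempty {i : Fin n // bl i = none} := by
            rw [← not_isEmpty_iff]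
            intro h2
            rw [Nat.card_of_isEmpty] at hv
            omega
          obtain ⟨i, hi⟩ := h1
          exact ⟨i, hi, fun t ht => absurd ⟨t, ht⟩ hT⟩
      obtain ⟨c, hc1, hc2, hc3, hc4⟩ := exists_change cs hb hi0
      have h1 : w⁻¹ * (c * w) ∈ Subgroup.closure (cs.simple '' (T : Set (Fin n))ᶜ) := by
        rw [← yv_eq_iff]
        intro t ht i
        rw [yv_mul, hc3, hc4]
        by_cases h2 : i = i₀
        · rw [h2, hi1 t ht, sb_none]
        · rw [decide_eq_true h2, sb_true]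
      refine ⟨u * c⁻¹, mul_mem hu (inv_mem hc1), ?_, w⁻¹ * (c * w) * x, mul_mem h1 hx1, ?_⟩
      · rw [map_mul, map_inv, hu1, hc2]
        decide
      · rw [he]
        group

/-- **Every chain of type `T` is a code of type `D`.** -/
theorem exists_of_chainD (hb : Blk bl) {v : ℕ} (hv : Nat.card {i : Fin n // bl i = none} = v) (hv0 : 0 < v) {d : ι → ℕ}
    (hd : ∀ O, Nat.card {i : Fin n // bl i = some O} = d O) {T : Finset (Fin n)} (q : Fin n → QD v ι)
    (hq : ∀ t ∈ T, ddm d (q t) = t + 1) (hqm : ∀ s ∈ T, ∀ t ∈ T, s ≤ t → q s ≤ q t) :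
    ∃ w : W, Good cs bl (T : Set (Fin n)) w ∧ ∀ t ∈ T, cdD cs hb v w t = q t := by
  classical
  let q' : Fin n → Q v ι := fun t => (⟨tdim (q t).1, Nat.lt_succ_of_le (H636.LIN.tdim_le _)⟩, (q t).2)
  obtain ⟨w, hw, hw2⟩ := exists_of_chain cs hb hv hd q' (fun t ht => hq t ht) (fun s hs t ht hst => by
    have h1 := hqm s hs t ht hst
    refine Prod.mk_le_mk.2 ⟨?_, h1.2⟩
    rw [Fin.le_def]
    rcases h1.1 with h2 | h2
    · exact (congrArg tdim h2).le
    · exact h2.le)
  have hxc : ∀ t ∈ T, xc cs bl w t = tdim (q t).1 := by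
    intro t ht
    have h1 : min (xc cs bl w t) v = tdim (q t).1 := congrArg (fun x : Q v ι => (x.1 : ℕ)) (hw2 t ht)
    rwa [min_eq_left (xc_le cs hv w t)] at h1
  have hsg : ∀ t ∈ T, sgc cs hb w t = (q t).2 := fun t ht => congrArg (fun x : Q v ι => x.2) (hw2 t ht)
  -- the code of an element with the same `B`-code and the right parity
  have key : ∀ z : W, (∀ t ∈ T, xc cs bl z t = tdim (q t).1) → (∀ t ∈ T, sgc cs hb z t = (q t).2) →
      (∀ t ∈ T, ∀ b, (q t).1 = top b → decide (sgt cs bl z = 1) = b) → ∀ t ∈ T, cdD cs hb v z t = q t := by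
    intro z h1 h2 h3 t ht
    unfold cdD
    refine Prod.ext ?_ (h2 t ht)
    change (if h : xc cs bl z t < v then low ⟨xc cs bl z t, h⟩ else top (decide (sgt cs bl z = 1))) = (q t).1
    rcases H636.LIN.tp_cases (q t).1 with ⟨i, hi⟩ | ⟨b, hb2⟩
    · have h4 : xc cs bl z t = i := by rw [h1 t ht, hi]; rfl
      have h5 : xc cs bl z t < v := by rw [h4]; exact i.2
      rw [dif_pos h5, hi]
      congr 1
      exact Fin.ext h4
    · have h4 : xc cs bl z t = v := by rw [h1 t ht, hb2]; rfl
      rw [dif_neg (by omega), h3 t ht b hb2, hb2]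
  by_cases hA : ∃ t ∈ T, ∃ b, (q t).1 = top b ∧ decide (sgt cs bl w = 1) ≠ b
  · obtain ⟨t₀, ht0, b₀, hb0, hne⟩ := hA
    -- all tops agree
    have htop : ∀ t ∈ T, ∀ b, (q t).1 = top b → b = b₀ := by
      intro t ht b hb2
      rcases le_total t t₀ with h1 | h1
      · have h2 := (hqm t ht t₀ ht0 h1).1
        rw [hb2, hb0] at h2
        rcases h2 with h3 | h3
        · exact H636.LIN.top_inj h3
        · rw [H636.LIN.tdim_top, H636.LIN.tdim_top] at h3
          omega
      · have h2 := (hqm t₀ ht0 t ht h1).1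
        rw [hb2, hb0] at h2
        rcases h2 with h3 | h3
        · exact (H636.LIN.top_inj h3).symm
        · rw [H636.LIN.tdim_top, H636.LIN.tdim_top] at h3
          omega
    have h1 : Nonempty {i : Fin n // bl i = none} := by
      rw [← not_isEmpty_iff]
      intro h2
      rw [Nat.card_of_isEmpty] at hv
      omega
    obtain ⟨i₀, hi0⟩ := h1
    obtain ⟨c, hc1, hc2, hc3, hc4⟩ := exists_change cs hb hi0
    have hf : ¬ xc cs bl w t₀ < v := by
      rw [hxc t₀ ht0, hb0, H636.LIN.tdim_top]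
      exact lt_irrefl _
    have h2 := sgt_mul cs hb hv hc1 (one_mem (Subgroup.closure (cs.simple '' (T : Set (Fin n))ᶜ))) ht0 hf
    have h3 := good_mul cs hb hw hc1 (one_mem (Subgroup.closure (cs.simple '' (T : Set (Fin n))ᶜ)))
    refine ⟨c * w * 1, h3, key _ (fun t ht => ?_) (fun t ht => ?_) fun t ht b hb2 => ?_⟩
    · rw [(xc_mul cs hb hv hw hc1 (one_mem _) ht).1, hxc t ht]
    · rw [(xc_mul cs hb hv hw hc1 (one_mem _) ht).2, hsg t ht]
    · rw [htop t ht b hb2, h2, hc2]
      rcases Int.units_eq_one_or (sgt cs bl w) with h4 | h4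
      · rw [h4] at hne ⊢
        cases b₀
        · decide
        · exact absurd (by decide) hne
      · rw [h4] at hne ⊢
        cases b₀
        · exact absurd (by decide) hne
        · decide
  · push Not at hA
    exact ⟨w, hw, key w hxc hsg fun t ht b hb2 => hA t ht b hb2⟩

end codes

/-! ### blocks of size `e` -/

section blE

variable {n : ℕ} {W : Type*} [Group W] (cs : CoxeterSystem (CoxeterMatrix.B n) W)

theorem good_blE {e w : ℕ} (hn : e * w ≤ n) (T : Finset (Fin n)) (x : W) :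
    Good cs (blE e w : Fin n → Option (Fin w)) (T : Set (Fin n)) x ↔
      ∀ j : Fin n, (j : ℕ) < e * w → ¬ e ∣ (j : ℕ) + 1 → ∀ t ∈ T, rep cs (isCartan n) x⁻¹ (sr j) t = 0 := by
  unfold Good
  rw [JP_blE hn]
  exact ⟨fun h j h1 h2 => h j ⟨h1, h2⟩, fun h j h1 => h j h1.1 h1.2⟩

/-- **(L-b), type `D`, `V₀ ≠ 0`.** -/
theorem card_cells_D {e w v : ℕ} (he : 0 < e) (hv : 0 < v) (hn : v + e * w = n) (T : Finset (Fin n)) {γ : Type*}
    (g : {x : W // ∀ j : Fin n, (j : ℕ) < e * w → ¬ e ∣ (j : ℕ) + 1 → ∀ t ∈ T, rep cs (isCartan n) x⁻¹ (sr j) t = 0} → γ)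
    (hg : Function.Surjective g)
    (hk : ∀ x y, g x = g y ↔ ∃ a ∈ Subgroup.closure (cs.simple '' {k : Fin n | e * w ≤ (k : ℕ) ∨ ¬ e ∣ (k : ℕ) + 1}),
      H493.CC.par (homB cs a) = 1 ∧ ∃ b ∈ Subgroup.closure (cs.simple '' (T : Set (Fin n))ᶜ), y.1 = a * x.1 * b) :
    (Nat.card γ : ℤ) = nch (ddm (v := v) fun _ : Fin w => e) T := by
  have hn' : e * w ≤ n := by omega
  have hb := blk_blE he hn'
  have hvc := card_blE_none hn
  have hdc := fun O : Fin w => card_blE_some he hn' O
  let E := Equiv.subtypeEquivRight (good_blE cs hn' T)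
  have : Nonempty (QD v (Fin w)) := ⟨(top true, fun _ => none)⟩
  refine card_of_code (fun x y h => H636.LIN.ddm_strictMono (fun _ => he) h) T
    (fun x : {x : W // Good cs (blE e w : Fin n → Option (Fin w)) (T : Set (Fin n)) x} => cdD cs hb v x.1)
    (fun x t ht => ddm_cdD cs hb hvc hdc x.2 ht) (fun x s _ t _ hst => cdD_mono cs hb hvc x.1 hst)
    (fun q hq hqm => ?_) (fun x => g (E x)) (hg.comp E.surjective) fun x y => ?_
  · obtain ⟨z, hz1, hz2⟩ := exists_of_chainD cs hb hvc hv hdc q hq hqm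
    exact ⟨⟨z, hz1⟩, hz2⟩
  · rw [hk, ← JJ_blE hn']
    constructor
    · rintro ⟨u, hu, hu1, b, hb1, h⟩ t ht
      have h' : y.1 = u * x.1 * b := h
      rw [h']
      exact (cdD_mul cs hb hvc x.2 hu hu1 hb1 ht).symm
    · intro h
      exact dco_of_cdD cs hb hvc hv x.2 y.2 h

/-- **(L-b), type `D`, `V₀ = 0`.** -/
theorem card_cells_D0 {e w : ℕ} (he : 0 < e) (hn : e * w = n) (T : Finset (Fin n)) {γ : Type*}
    (g : {x : W // ∀ j : Fin n, (j : ℕ) < e * w → ¬ e ∣ (j : ℕ) + 1 → ∀ t ∈ T, rep cs (isCartan n) x⁻¹ (sr j) t = 0} → γ)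
    (hg : Function.Surjective g)
    (hk : ∀ x y, g x = g y ↔ ∃ a ∈ Subgroup.closure (cs.simple '' {k : Fin n | e * w ≤ (k : ℕ) ∨ ¬ e ∣ (k : ℕ) + 1}),
      H493.CC.par (homB cs a) = 1 ∧ ∃ b ∈ Subgroup.closure (cs.simple '' (T : Set (Fin n))ᶜ), y.1 = a * x.1 * b) :
    (Nat.card γ : ℤ) = nch (H636.LIN.wt fun _ : Fin w => e) T := by
  have hn' : e * w ≤ n := hn.le
  have hb := blk_blE he hn'
  have hvc : Nat.card {i : Fin n // blE e w i = none} = 0 := card_blE_none (v := 0) (by omega)
  have hdc := fun O : Fin w => card_blE_some he hn' O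
  let E := Equiv.subtypeEquivRight (good_blE cs hn' T)
  have hcd : ∀ q : Q 0 (Fin w), (q.1 : ℕ) = 0 := fun q => by have := q.1.2; omega
  have : Nonempty (Sg (Fin w)) := ⟨fun _ => none⟩
  refine card_of_code (fun x y h => H636.LIN.wt_strictMono (fun _ => he) h) T
    (fun x : {x : W // Good cs (blE e w : Fin n → Option (Fin w)) (T : Set (Fin n)) x} => sgc cs hb x.1)
    (fun x t ht => ?_) (fun x s _ t _ hst => (cd_mono cs hb (v := 0) x.1 hst).2)
    (fun q hq hqm => ?_) (fun x => g (E x)) (hg.comp E.surjective) fun x y => ?_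
  · have h1 := dm_cd cs hb hvc hdc x.2 ht
    unfold dm at h1
    rw [hcd, zero_add] at h1
    exact h1
  · obtain ⟨z, hz1, hz2⟩ := exists_of_chain cs hb hvc hdc (v := 0) (fun t => ((0 : Fin 1), q t)) (fun t ht => by
      unfold dm
      rw [← hq t ht]
      exact Nat.zero_add _) (fun s hs t ht hst => Prod.mk_le_mk.2 ⟨le_rfl, hqm s hs t ht hst⟩)
    exact ⟨⟨z, hz1⟩, fun t ht => congrArg (fun x : Q 0 (Fin w) => x.2) (hz2 t ht)⟩
  · have hpar : ∀ a ∈ Subgroup.closure (cs.simple '' JJ (blE e w : Fin n → Option (Fin w))), pr cs a = 1 := by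
      intro a ha
      rw [pr_eq_tail cs hb ha]
      unfold sgt
      rw [Finset.filter_false_of_mem, Finset.prod_empty]
      intro i _ hi
      have := blE_none.1 hi
      have := i.2
      omega
    rw [hk, ← JJ_blE hn']
    constructor
    · rintro ⟨u, hu, -, b, hb1, h⟩ t ht
      have h' : y.1 = u * x.1 * b := h
      rw [h']
      exact (xc_mul cs hb hvc x.2 hu hb1 ht).2.symm
    · intro h
      obtain ⟨u, hu, b, hb1, h1⟩ := dco_of_cd cs hb hvc x.2 y.2 fun t ht =>
        Prod.ext (Fin.ext ((hcd _).trans (hcd _).symm)) (h t ht)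
      exact ⟨u, hu, hpar u hu, b, hb1, h1⟩

end blE

end Cfsg.Agent.H236.XZ
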