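import Cfsg.Agent.H236.XZ.Into
import Cfsg.Agent.H636.LIN.GdM

/-!
# The linear primes, type `B_m`: `LinData` gives the good nodes (helper236, for S4791 / S4927)

`gdC_of_linData` : helper796's `LinData.cnt_modEq`, `card_quot_DC` and helper636's `gdC_of_mod` together.
-/

set_option autoImplicit false
set_option linter.unusedSectionVars false

open Cfsg

namespace Cfsg.Agent.H236.XZ

open CoxeterSystem Cfsg.Agent.ChevalleyStructure.CoxeterGeom Cfsg.Agent.Tits.Roots Cfsg.Agent.Tits.Core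
  Cfsg.Agent.Nodes.Reps Cfsg.Agent.Nodes.BNOf Cfsg.Agent.Nodes.StabComb Cfsg.Agent.Nodes.Comb
  Cfsg.Agent.Nodes.Bruhat Cfsg.Agent.Nodes.OppDec Cfsg.Agent.Nodes.LeviDec Cfsg.Agent.Characters.Core
  Cfsg.Agent.H796.BR Cfsg.Agent.H796.XZ Cfsg.Agent.H145.BR Cfsg.Agent.H967.XZ Cfsg.Agent.H603.AP Cfsg.Agent.H674.XZ
  Cfsg.Agent.H53.HC Cfsg.Agent.Nodes.TypeC
open Cfsg.Agent.H636.LIN (gdC_of_mod)

universe u

theorem orth_JA_JT (m e w : ℕ) : Orth (A m) (JA m e w) (JT m e w) := by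
  intro i hi j hj
  have h1 : (i : ℕ) + 1 < e * w := hi.1
  have h2 : e * w ≤ (j : ℕ) := hj
  have h3 : i ≠ j := fun e => by rw [e] at h1; omega
  refine ⟨h3, ?_, ?_⟩
  · rw [A_apply, if_neg h3, if_neg (by omega), if_neg (by omega)]
  · rw [A_apply, if_neg h3.symm, if_neg (by omega), if_neg (by omega)]

/-- **The good nodes at a linear prime.** -/
theorem gdC_of_linData {m : ℕ} {W : Type*} [Group W] [Finite W] {Y : Type u} [Group Y] [Finite Y]
    {cs : CoxeterSystem (CoxeterMatrix.B m) W} {r p : ℕ} [Fact r.Prime] [Fact p.Prime] {T : Subgroup Y} {n : Fin m → Y}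
    {X : (Fin m → ℤ) → Subgroup Y} {M : Ideal AlgInt} (R : RGD cs (isCartan m) r T n X)
    (hG : GG cs (isCartan m) T X = ⊤) (hpr : p ≠ r) (hM : IsPModular p M) {v e w a : ℕ} (he : 0 < e)
    (hm : v + e * w = m) {P : Sylow p Y} {P₀ : Subgroup Y}
    (D : LinData cs (isCartan m) T X p (JA m e w) (JT m e w) P P₀) (hva : v ≤ a) (ha : a ≤ m)
    (ht : tt p w ((a - v) / e) ≠ 0) : GdC p M cs (isCartan m) T X a := by
  refine gdC_of_mod hM P he hva ha hm (fun U _ => ?_) ht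
  rw [← card_quot_DC cs he hm U, Int.cast_natCast]
  exact (ZMod.natCast_eq_natCast_iff _ _ _).2 (D.cnt_modEq R hG hpr (orth_JA_JT m e w) _)

end Cfsg.Agent.H236.XZ
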