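import Cfsg.Agent.H504.XZ.StD
import Cfsg.Agent.H636.LIN.DF
import Cfsg.Agent.H796.XZ.LinOrb
import Cfsg.Agent.H796.XZ.LinDefs

/-!
# The linear primes, type `D_m`: the good nodes (helper236, for S4791 / S4927)

`N U` : the number of the classes of helper796's `DC` for `K = Uᶜ`.

* `exists_FV_of_cnt` : any type: `F(beta_S)` from the numbers modulo `p`;
* `gdD_of_counts0` (`V₀ = 0`), `gdD_of_countsV` (`V₀ ≠ 0`) : the good `a ≤ m - 2` from `LinData` and the three families of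
  identities of helper967 for the numbers of classes.
-/

set_option autoImplicit false
set_option linter.unusedSectionVars false

open Cfsg

namespace Cfsg.Agent.H236.XZ

open CoxeterSystem Cfsg.Agent.ChevalleyStructure.CoxeterGeom Cfsg.Agent.Tits.Roots Cfsg.Agent.Tits.Core
  Cfsg.Agent.Nodes.Reps Cfsg.Agent.Nodes.BNOf Cfsg.Agent.Nodes.StabComb Cfsg.Agent.Nodes.Comb
  Cfsg.Agent.Nodes.Bruhat Cfsg.Agent.Nodes.OppDec Cfsg.Agent.Nodes.LeviDec Cfsg.Agent.Characters.Core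
  Cfsg.Agent.H796.BR Cfsg.Agent.H796.XZ Cfsg.Agent.H145.BR Cfsg.Agent.H967.XZ Cfsg.Agent.H603.AP Cfsg.Agent.H674.XZ
  Cfsg.Agent.H53.HC Cfsg.Agent.H504.XZ
open Cfsg.Agent.H636.LIN (nch ddm not_dvd_D0 not_dvd_DV)

universe u

section general

variable {I W : Type*} [Fintype I] [DecidableEq I] [Group W] [Finite W] {Y : Type u} [Group Y] [Finite Y]
  {Mc : CoxeterMatrix I} {cs : CoxeterSystem Mc W} {A : I → I → ℤ} {h : IsCartan Mc A} {p : ℕ}
  {T : Subgroup Y} {X : (I → ℤ) → Subgroup Y} {M : Ideal AlgInt}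

/-- `F(beta_S)` from the numbers of orbits modulo `p` -/
theorem exists_FV_of_cnt [hp : Fact p.Prime] (hM : IsPModular p M) (P : Sylow p Y) (S : Finset I) (N : Finset I → ℤ)
    (hN : ∀ U ⊆ S, ((cnt (P : Subgroup Y) (Y ⧸ PJ cs h T X ((Uᶜ : Finset I) : Set I)) : ℤ) : ZMod p) = ((N U : ℤ) : ZMod p))
    (hd : ¬ (p : ℤ) ∣ ∑ L ∈ S.powerset, (-1) ^ L.card * N (S \ L)) :
    ∃ c : ℤ, FV p M (betaPJ cs h T X S) c ∧ ¬ (p : ℤ) ∣ c := by
  classical
  refine ⟨_, FV_beta (cs := cs) (h := h) (T := T) (X := X) hM P S, ?_⟩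
  rw [← ZMod.intCast_zmod_eq_zero_iff_dvd] at hd ⊢
  intro hcon
  apply hd
  rw [← hcon, Int.cast_sum, Int.cast_sum]
  refine Finset.sum_congr rfl fun L hL => ?_
  have hL' := Finset.mem_powerset.1 hL
  have e1 : (Sᶜ ∪ L : Finset I) = (S \ L)ᶜ := by
    ext j
    simp only [Finset.mem_union, Finset.mem_compl, Finset.mem_sdiff, not_and, not_not]
    constructor
    · rintro (h1 | h1) h2
      · exact absurd h2 h1
      · exact h1
    · intro h1
      by_cases h2 : j ∈ S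
      · exact Or.inr (h1 h2)
      · exact Or.inl h2
  rw [e1, Int.cast_mul, Int.cast_mul, ← hN (S \ L) Finset.sdiff_subset]

end general

section typeD

variable {k : ℕ} {W : Type*} [Group W] [Finite W] {Y : Type u} [Group Y] [Finite Y]
  {cs : CoxeterSystem (Nodes.TypeD.M k) W} {r p : ℕ} [Fact r.Prime] [hp : Fact p.Prime] {T : Subgroup Y}
  {n : Fin (k + 2) → Y} {X : (Fin (k + 2) → ℤ) → Subgroup Y} {M : Ideal AlgInt}

/-- the number of the classes -/
noncomputable def ND (cs : CoxeterSystem (Nodes.TypeD.M k) W) (JA' JT' : Set (Fin (k + 2))) (U : Finset (Fin (k + 2))) : ℤ :=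
  (Nat.card (Quot (DC cs (Nodes.TypeD.isCartan k) JA' JT' ((Uᶜ : Finset (Fin (k + 2))) : Set (Fin (k + 2))))) : ℤ)

theorem cnt_eq_ND (R : RGD cs (Nodes.TypeD.isCartan k) r T n X) (hG : GG cs (Nodes.TypeD.isCartan k) T X = ⊤) (hpr : p ≠ r)
    {JA' JT' : Set (Fin (k + 2))} (ho : Orth (Nodes.TypeD.A k) JA' JT') {P : Sylow p Y} {P₀ : Subgroup Y}
    (D : LinData cs (Nodes.TypeD.isCartan k) T X p JA' JT' P P₀) (U : Finset (Fin (k + 2))) :
    ((cnt (P : Subgroup Y) (Y ⧸ PJ cs (Nodes.TypeD.isCartan k) T X ((Uᶜ : Finset (Fin (k + 2))) : Set (Fin (k + 2)))) : ℤ) :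
      ZMod p) = ((ND cs JA' JT' U : ℤ) : ZMod p) := by
  unfold ND
  rw [Int.cast_natCast, Int.cast_natCast]
  exact (ZMod.natCast_eq_natCast_iff _ _ _).2 (D.cnt_modEq R hG hpr ho _)

/-- **The good nodes `a ≤ m - 2`, `V₀ = 0`.** -/
theorem gdD_of_counts0 (R : RGD cs (Nodes.TypeD.isCartan k) r T n X) (hG : GG cs (Nodes.TypeD.isCartan k) T X = ⊤)
    (hpr : p ≠ r) (hM : IsPModular p M) {JA' JT' : Set (Fin (k + 2))} (ho : Orth (Nodes.TypeD.A k) JA' JT') {P : Sylow p Y}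
    {P₀ : Subgroup Y} (D : LinData cs (Nodes.TypeD.isCartan k) T X p JA' JT' P P₀) {e w a : ℕ} (he : 0 < e)
    (hm : e * w = k + 2) (i j : Fin (k + 2)) (hi : (i : ℕ) = k) (hj : (j : ℕ) = k + 1) (ha : a ≤ k)
    (h0 : ∀ U : Finset (Fin (k + 2)), (∀ l ∈ U, (l : ℕ) < k) → ND cs JA' JT' U = nch (H636.LIN.wt fun _ : Fin w => e) U)
    (h1 : ∀ U : Finset (Fin (k + 2)), (∀ l ∈ U, (l : ℕ) < k) →
      ND cs JA' JT' (insert i U) + ND cs JA' JT' (insert j U) = nch (H636.LIN.wt fun _ : Fin w => e) (insert j U))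
    (h11 : ∀ U : Finset (Fin (k + 2)), (∀ l ∈ U, (l : ℕ) < k) →
      ND cs JA' JT' (insert j (insert i U)) = nch (H636.LIN.wt fun _ : Fin w => e) (insert i U))
    (ht : tt p w (a / e) ≠ 0) : GdD p M cs (Nodes.TypeD.isCartan k) T X a := by
  refine exists_FV_of_cnt hM P (ge a) (ND cs JA' JT') (fun U _ => cnt_eq_ND R hG hpr ho D U) ?_
  refine not_dvd_D0 he hm i j (by omega) (by omega) (by omega) (ge a) (fun l => mem_ge) (ND cs JA' JT') (fun U hU => ?_)
    (fun U hU => ?_) (fun U hU => ?_) ht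
  · rw [h0 U fun l hl => by have := (hU l hl).2; omega]
  · rw [h1 U fun l hl => by have := (hU l hl).2; omega]
  · rw [h11 U fun l hl => by have := (hU l hl).2; omega]

/-- **The good nodes `a ≤ m - 2`, `V₀ ≠ 0`.** -/
theorem gdD_of_countsV (R : RGD cs (Nodes.TypeD.isCartan k) r T n X) (hG : GG cs (Nodes.TypeD.isCartan k) T X = ⊤)
    (hpr : p ≠ r) (hM : IsPModular p M) {JA' JT' : Set (Fin (k + 2))} (ho : Orth (Nodes.TypeD.A k) JA' JT') {P : Sylow p Y}
    {P₀ : Subgroup Y} (D : LinData cs (Nodes.TypeD.isCartan k) T X p JA' JT' P P₀) {v e w a : ℕ} (hv : 0 < v) (he : 2 ≤ e)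
    (hm : v + e * w = k + 2) (i j : Fin (k + 2)) (hi : (i : ℕ) = k) (hj : (j : ℕ) = k + 1) (hva : v ≤ a) (ha : a ≤ k)
    (h0 : ∀ U : Finset (Fin (k + 2)), (∀ l ∈ U, (l : ℕ) < k) → ND cs JA' JT' U = nch (ddm (v := v) fun _ : Fin w => e) U)
    (h1 : ∀ U : Finset (Fin (k + 2)), (∀ l ∈ U, (l : ℕ) < k) →
      ND cs JA' JT' (insert i U) + ND cs JA' JT' (insert j U) = nch (ddm (v := v) fun _ : Fin w => e) (insert j U))
    (h11 : ∀ U : Finset (Fin (k + 2)), (∀ l ∈ U, (l : ℕ) < k) →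
      ND cs JA' JT' (insert j (insert i U)) = nch (ddm (v := v) fun _ : Fin w => e) (insert i U))
    (ht : 2 * tt p w ((a - v) / e) - tt p w ((a - v + 1) / e) ≠ 0) : GdD p M cs (Nodes.TypeD.isCartan k) T X a := by
  refine exists_FV_of_cnt hM P (ge a) (ND cs JA' JT') (fun U _ => cnt_eq_ND R hG hpr ho D U) ?_
  refine not_dvd_DV hv he hm i j (by omega) (by omega) hva (by omega) (ge a) (fun l => mem_ge) (ND cs JA' JT')
    (fun U hU => ?_) (fun U hU => ?_) (fun U hU => ?_) ht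
  · rw [h0 U fun l hl => by have := (hU l hl).2; omega]
  · rw [h1 U fun l hl => by have := (hU l hl).2; omega]
  · rw [h11 U fun l hl => by have := (hU l hl).2; omega]

/-- **The node `m - 1`.** -/
theorem gdD_last (R : RGD cs (Nodes.TypeD.isCartan k) r T n X) (hG : GG cs (Nodes.TypeD.isCartan k) T X = ⊤)
    (hpr : p ≠ r) (hM : IsPModular p M) {JA' JT' : Set (Fin (k + 2))} (ho : Orth (Nodes.TypeD.A k) JA' JT') {P : Sylow p Y}
    {P₀ : Subgroup Y} (D : LinData cs (Nodes.TypeD.isCartan k) T X p JA' JT' P P₀) (j : Fin (k + 2)) (hj : (j : ℕ) = k + 1)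
    {c : ℤ} (h0 : ND cs JA' JT' ∅ = 1) (h1 : ND cs JA' JT' {j} = c) (hc : ¬ (p : ℤ) ∣ c - 1) :
    GdD p M cs (Nodes.TypeD.isCartan k) T X (k + 1) := by
  have hge : (ge (k + 1) : Finset (Fin (k + 2))) = {j} := by
    ext l
    rw [mem_ge, Finset.mem_singleton]
    constructor
    · intro h
      exact Fin.ext (by have := l.2; omega)
    · rintro rfl
      omega
  refine exists_FV_of_cnt hM P (ge (k + 1)) (ND cs JA' JT') (fun U _ => cnt_eq_ND R hG hpr ho D U) ?_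
  rw [hge, ← insert_empty_eq j, Finset.sum_powerset_insert (Finset.notMem_empty j), Finset.powerset_empty,
    Finset.sum_singleton, Finset.sum_singleton, insert_empty_eq, Finset.card_empty, Finset.card_singleton,
    Finset.sdiff_empty, Finset.sdiff_self, h0, h1]
  intro hcon
  apply hc
  have e : (-1 : ℤ) ^ 0 * c + (-1) ^ 1 * 1 = c - 1 := by ring
  rwa [e] at hcon

end typeD

end Cfsg.Agent.H236.XZ
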