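import Cfsg.Agent.H236.XZ.Cells
import Cfsg.Agent.H796.XZ.LinOrb
import Cfsg.Agent.H796.XZ.LinDefs
import Cfsg.Agent.Nodes.Comb

/-!
# From good elements to elements mapping simple roots to simple roots (helper236, for S4791 / S4927)

* `exists_into` : if `w⁻¹ Φ_J` is supported on `K` then the double coset of `W_J`, `W_K` of `w` contains an element `x` with
  `Into cs h J K x` (any type);
* `card_quot_DC` : type `B_n` : the number of classes of helper796's `DC` is the number of chains of helper636.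
-/

set_option autoImplicit false
set_option linter.unusedSectionVars false

namespace Cfsg.Agent.H236.XZ

open CoxeterSystem Cfsg.Agent.ChevalleyStructure.CoxeterGeom Cfsg.Agent.Tits.Roots Cfsg.Agent.Tits.Core
  Cfsg.Agent.H796.BR Cfsg.Agent.H796.XZ
open Cfsg.Agent.H636.LIN (Sg Q dm nch chs mem_chs)

section general

variable {I W : Type*} [Fintype I] [DecidableEq I] [Group W] {M : CoxeterMatrix I} (cs : CoxeterSystem M W)
  {A : I → I → ℤ} (h : IsCartan M A)

/-- an element of minimal length in a double coset -/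
theorem exists_min_double (J K : Set I) (w : W) : ∃ a ∈ WJ cs J, ∃ b ∈ WJ cs K,
    (∀ i ∈ J, cs.length (a * w * b) < cs.length (cs.simple i * (a * w * b))) ∧
    ∀ k ∈ K, cs.length (a * w * b) < cs.length (a * w * b * cs.simple k) := by
  classical
  have hex : ∃ m : ℕ, ∃ a ∈ WJ cs J, ∃ b ∈ WJ cs K, cs.length (a * w * b) = m :=
    ⟨_, 1, one_mem _, 1, one_mem _, rfl⟩
  obtain ⟨a, ha, b, hb, hm⟩ := Nat.find_spec hex
  refine ⟨a, ha, b, hb, fun i hi => ?_, fun k hk => ?_⟩
  · by_contra hlt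
    have h1 := cs.length_simple_mul (a * w * b) i
    have h2 : cs.length (cs.simple i * (a * w * b)) < Nat.find hex := by omega
    refine Nat.find_min hex h2 ⟨cs.simple i * a, mul_mem (Subgroup.subset_closure ⟨i, hi, rfl⟩) ha, b, hb, ?_⟩
    rw [mul_assoc (cs.simple i), mul_assoc (cs.simple i)]
  · by_contra hlt
    have h1 := cs.length_mul_simple (a * w * b) k
    have h2 : cs.length (a * w * b * cs.simple k) < Nat.find hex := by omega
    refine Nat.find_min hex h2 ⟨a, ha, b * cs.simple k, mul_mem hb (Subgroup.subset_closure ⟨k, hk, rfl⟩), ?_⟩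
    rw [← mul_assoc]

/-- **A double coset of `W_J`, `W_K` with `w⁻¹ Φ_J` supported on `K` contains an element `x` mapping simple roots of `K` to
the simple roots of `J`.** -/
theorem exists_into {J K : Set I} {w : W} (hw : ∀ j ∈ J, ∀ t, t ∉ K → rep cs h w⁻¹ (sr j) t = 0) :
    ∃ a ∈ WJ cs J, ∃ b ∈ WJ cs K, Into cs h J K (a * w * b) := by
  obtain ⟨a, ha, b, hb, h1, h2⟩ := exists_min_double cs J K w
  refine ⟨a, ha, b, hb, fun i hi => ?_⟩
  set x := a * w * b with hx
  -- positivity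
  have h3 : 0 ≤ rep cs h x⁻¹ (sr i) := by
    refine nonneg_of_lt cs h x⁻¹ i ?_
    have h4 := h1 i hi
    have h5 : (cs.simple i * x)⁻¹ = x⁻¹ * cs.simple i := by rw [mul_inv_rev, cs.inv_simple]
    rw [← cs.length_inv x, ← cs.length_inv (cs.simple i * x), h5] at h4
    exact h4
  have h4 : ∀ k ∈ K, 0 ≤ rep cs h x (sr k) := fun k hk => nonneg_of_lt cs h x k (h2 k hk)
  -- support
  have hw' : ∀ y : I → ℤ, (∀ t, t ∉ J → y t = 0) → ∀ t, t ∉ K → rep cs h w⁻¹ y t = 0 := by
    intro y hy t ht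
    rw [eq_sum y, map_sum, Finset.sum_apply]
    refine Finset.sum_eq_zero fun j _ => ?_
    rw [map_smul, Pi.smul_apply, smul_eq_mul]
    by_cases hj : j ∈ J
    · rw [hw j hj t ht, mul_zero]
    · rw [hy j hj, zero_mul]
  have h5 : ∀ t, t ∉ K → rep cs h x⁻¹ (sr i) t = 0 := by
    intro t ht
    have e : x⁻¹ = b⁻¹ * (w⁻¹ * a⁻¹) := by rw [hx]; group
    rw [e, rep_mul_apply, rep_mul_apply, Cfsg.Agent.Tits.RootComb.rep_apply_of_mem cs h (inv_mem hb) _ ht]
    refine hw' _ (fun s hs => ?_) t ht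
    rw [Cfsg.Agent.Tits.RootComb.rep_apply_of_mem cs h (inv_mem ha) _ hs]
    exact sr_ne (fun e => hs (e ▸ hi))
  -- `α_i = ∑ c_k x α_k`
  set c := rep cs h x⁻¹ (sr i) with hc
  have h6 : rep cs h x c = sr i := by rw [hc, rep_apply_inv]
  have h7 : ∀ l, ∑ k, c k * rep cs h x (sr k) l = (sr i : I → ℤ) l := by
    intro l
    rw [← h6]
    conv_rhs => rw [eq_sum c, map_sum, Finset.sum_apply]
    exact Finset.sum_congr rfl fun k _ => by rw [map_smul, Pi.smul_apply, smul_eq_mul]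
  have h8 : ∀ k l, 0 ≤ c k * rep cs h x (sr k) l := by
    intro k l
    by_cases hk : k ∈ K
    · exact mul_nonneg (h3 k) (h4 k hk l)
    · rw [h5 k hk, zero_mul]
  have hc0 : c ≠ 0 := by
    intro e
    rw [e, map_zero] at h6
    have := congrFun h6 i
    rw [sr_self] at this
    exact zero_ne_one this
  obtain ⟨k, hk⟩ := Function.ne_iff.1 hc0
  have hkK : k ∈ K := by
    by_contra hkK
    exact hk (h5 k hkK)
  refine ⟨k, hkK, ?_⟩
  refine ((isRoot_sr cs h k).act x).eq_sr (h4 k hkK) i fun l hl => ?_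
  have h9 := h7 l
  rw [sr_ne hl] at h9
  have h10 := (Finset.sum_eq_zero_iff_of_nonneg fun k _ => h8 k l).1 h9 k (Finset.mem_univ k)
  exact (mul_eq_zero.1 h10).resolve_left hk

/-- the converse -/
theorem Into.supp {J K : Set I} {w : W} (hw : Into cs h J K w) : ∀ j ∈ J, ∀ t, t ∉ K → rep cs h w⁻¹ (sr j) t = 0 := by
  intro j hj t ht
  obtain ⟨k, hk, e⟩ := hw j hj
  rw [← e, rep_inv_apply]
  exact sr_ne fun e => ht (e ▸ hk)

/-- a set of representatives for the classes of `DC` from one for the classes of the elements with the support condition -/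
theorem card_quot_DC_of {JA JT K : Set I} {γ : Type*}
    (f : {w : W // ∀ j ∈ JA, ∀ t, t ∉ K → rep cs h w⁻¹ (sr j) t = 0} → γ) (hf : Function.Surjective f)
    (hk : ∀ x y, f x = f y ↔ ∃ u ∈ WJ cs (JA ∪ JT), ∃ v ∈ WJ cs K, y.1 = u * x.1 * v) :
    Nat.card (Quot (DC cs h JA JT K)) = Nat.card γ := by
  let g : {w : W // Into cs h JA K w} → {w : W // ∀ j ∈ JA, ∀ t, t ∉ K → rep cs h w⁻¹ (sr j) t = 0} :=
    fun w => ⟨w.1, Into.supp cs h w.2⟩
  have hfg : Function.Surjective (f ∘ g) := by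
    intro c
    obtain ⟨w, rfl⟩ := hf c
    obtain ⟨a, ha, b, hb, hi⟩ := exists_into cs h w.2
    refine ⟨⟨a * w.1 * b, hi⟩, ((hk _ _).2 ?_).symm⟩
    exact ⟨a, Subgroup.closure_mono (Set.image_mono Set.subset_union_left) ha, b, hb, rfl⟩
  exact card_quot_of hfg fun x y => hk _ _

end general

section typeB

open Cfsg.Agent.Nodes.TypeC

variable {n : ℕ} {W : Type*} [Group W] (cs : CoxeterSystem (CoxeterMatrix.B n) W)

/-- **(L-b), final form**: type `B_n`, `n = v + e w`. -/
theorem card_quot_DC {e w v : ℕ} (he : 0 < e) (hn : v + e * w = n) (U : Finset (Fin n)) :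
    (Nat.card (Quot (DC cs (isCartan n) (JA n e w) (JT n e w) ((Uᶜ : Finset (Fin n)) : Set (Fin n)))) : ℤ) =
      nch (dm (v := v) fun _ : Fin w => e) U := by
  have hU : ((Uᶜ : Finset (Fin n)) : Set (Fin n)) = (U : Set (Fin n))ᶜ := Finset.coe_compl U
  rw [hU]
  have hJA : JA n e w = {k : Fin n | (k : ℕ) < e * w ∧ ¬ e ∣ (k : ℕ) + 1} := by
    ext k
    constructor
    · rintro ⟨h1, h2⟩
      exact ⟨by omega, h2⟩
    · rintro ⟨h1, h2⟩
      have h4 : (k : ℕ) + 1 ≠ e * w := fun h5 => h2 (h5 ▸ Dvd.intro w rfl)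
      exact ⟨by omega, h2⟩
  have hJ : JA n e w ∪ JT n e w = {k : Fin n | e * w ≤ (k : ℕ) ∨ ¬ e ∣ (k : ℕ) + 1} := by
    rw [hJA]
    ext k
    constructor
    · rintro (⟨h1, h2⟩ | h1)
      · exact Or.inr h2
      · exact Or.inl h1
    · rintro (h1 | h1)
      · exact Or.inr h1
      · rcases le_or_gt (e * w) (k : ℕ) with h2 | h2
        · exact Or.inr h2
        · exact Or.inl ⟨h2, h1⟩
  -- the quotient by double cosets of the elements with the support condition
  let α := {x : W // ∀ j ∈ JA n e w, ∀ t, t ∉ (U : Set (Fin n))ᶜ → rep cs (isCartan n) x⁻¹ (sr j) t = 0}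
  let r : α → α → Prop := fun x y => ∃ u ∈ WJ cs (JA n e w ∪ JT n e w), ∃ v ∈ WJ cs (U : Set (Fin n))ᶜ, y.1 = u * x.1 * v
  have hr : Equivalence r :=
    { refl := fun x => ⟨1, one_mem _, 1, one_mem _, by rw [one_mul, mul_one]⟩
      symm := by
        rintro x y ⟨u, hu, v, hv, e⟩
        exact ⟨u⁻¹, inv_mem hu, v⁻¹, inv_mem hv, by rw [e]; group⟩
      trans := by
        rintro x y z ⟨u, hu, v, hv, e⟩ ⟨u', hu', v', hv', e'⟩
        exact ⟨u' * u, mul_mem hu' hu, v * v', mul_mem hv hv', by rw [e', e]; group⟩ }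
  let st : Setoid α := ⟨r, hr⟩
  have hq : ∀ x y : α, (Quotient.mk st x = Quotient.mk st y) ↔ r x y := fun x y => Quotient.eq
  rw [card_quot_DC_of cs (isCartan n) (JA := JA n e w) (JT := JT n e w) (K := (U : Set (Fin n))ᶜ) (Quotient.mk st)
    Quotient.mk_surjective hq]
  -- the cells
  have h1 : ∀ x : W, (∀ j : Fin n, (j : ℕ) < e * w → ¬ e ∣ (j : ℕ) + 1 → ∀ t ∈ U, rep cs (isCartan n) x⁻¹ (sr j) t = 0) ↔
      ∀ j ∈ JA n e w, ∀ t, t ∉ (U : Set (Fin n))ᶜ → rep cs (isCartan n) x⁻¹ (sr j) t = 0 := by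
    intro x
    rw [hJA]
    constructor
    · intro h j hj t ht
      exact h j hj.1 hj.2 t (not_not.1 ht)
    · intro h j h1 h2 t ht
      exact h j ⟨h1, h2⟩ t (not_not.2 ht)
  let E := Equiv.subtypeEquivRight h1
  refine card_cells cs he hn U (fun x => Quotient.mk st (E x)) (Quotient.mk_surjective.comp E.surjective) fun x y => ?_
  rw [hq, ← hJ]
  rfl

end typeB

end Cfsg.Agent.H236.XZ
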