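import Cfsg.Agent.H215.WB.CoxB

/-!
# Signed permutations and flags of signed index sets (helper236, for S4791 / S4927, box (L-b))

`W` the Coxeter group of type `B_n`, acting on the signed indices `Fin n × Bool`.

* `sp cs : W →* Equiv.Perm (Fin n × Bool)`; `w⁻¹ (i, true) = (ta w i, de w i)`;
* `yv cs w t i` : the sign of `i` in the image under `w` of the standard set `{(j, true) : j ≤ t}` (`none`: not in the image);
* `mem_iff` : `v` lies in the standard parabolic subgroup of the nodes outside `T` iff it fixes the standard sets for `t ∈ T`;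
* `yv_eq_iff`, `coef_eq_zero_iff`, `exists_of_perm`.
-/

set_option autoImplicit false
set_option linter.unusedSectionVars false

namespace Cfsg.Agent.H236.XZ

open Cfsg Cfsg.Agent.ChevalleyStructure.CoxeterGeom Cfsg.Agent.Tits.Roots Cfsg.Agent.Nodes.TypeC Cfsg.Agent.H215.WB
open CoxeterSystem

variable {n : ℕ} {W : Type*} [Group W] (cs : CoxeterSystem (CoxeterMatrix.B n) W)

/-- the action on the signed indices -/
noncomputable def sp : W →* Equiv.Perm (Fin n × Bool) := cc.comp (homB cs)

theorem sp_simple (i : Fin n) (x : Fin n × Bool) : sp cs (cs.simple i) x = sg i x := by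
  change cc (homB cs (cs.simple i)) x = _
  rw [homB_simple, cc_gen]
  rfl

theorem sp_apply (w : W) (x : Fin n × Bool) :
    sp cs w x = ((homB cs w).right x.1, bx ((homB cs w).left ((homB cs w).right x.1)) x.2) := rfl

theorem sp_cancel (w : W) (x : Fin n × Bool) : sp cs w (sp cs w⁻¹ x) = x := by
  rw [← Equiv.Perm.mul_apply, ← map_mul, mul_inv_cancel, map_one, Equiv.Perm.one_apply]

theorem sp_cancel' (w : W) (x : Fin n × Bool) : sp cs w⁻¹ (sp cs w x) = x := by
  rw [← Equiv.Perm.mul_apply, ← map_mul, inv_mul_cancel, map_one, Equiv.Perm.one_apply]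

theorem bx_not (z : ℤˣ) (b : Bool) : bx z (!b) = !(bx z b) := by
  rcases Int.units_eq_one_or z with rfl | rfl <;> simp [bx_one, bx_neg]

theorem sp_ng (w : W) (x : Fin n × Bool) : sp cs w (ng x) = ng (sp cs w x) := by
  rw [sp_apply, sp_apply]
  exact Prod.ext rfl (bx_not _ _)

/-- the index of `w⁻¹ (i, true)` -/
noncomputable def ta (w : W) (i : Fin n) : Fin n := (sp cs w⁻¹ (i, true)).1

/-- the sign of `w⁻¹ (i, true)` -/
noncomputable def de (w : W) (i : Fin n) : Bool := (sp cs w⁻¹ (i, true)).2

theorem sp_inv_true (w : W) (i : Fin n) : sp cs w⁻¹ (i, true) = (ta cs w i, de cs w i) := rfl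

theorem sp_inv_false (w : W) (i : Fin n) : sp cs w⁻¹ (i, false) = (ta cs w i, !de cs w i) := by
  have h := sp_ng cs w⁻¹ (i, true)
  rw [sp_inv_true] at h
  exact h

theorem ta_eq (w : W) : ta cs w = (homB cs w⁻¹).right := rfl

theorem ta_bijective (w : W) : Function.Bijective (ta cs w) := by
  rw [ta_eq]
  exact (homB cs w⁻¹).right.bijective

theorem ta_one (i : Fin n) : ta cs 1 i = i := by
  unfold ta
  rw [inv_one, map_one, Equiv.Perm.one_apply]

theorem de_one (i : Fin n) : de cs 1 i = true := by
  unfold de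
  rw [inv_one, map_one, Equiv.Perm.one_apply]

/-- the action of a sign on signs -/
def sb (b : Bool) (y : Option Bool) : Option Bool := y.map fun c => if b then c else !c

theorem sb_none (b : Bool) : sb b none = none := rfl

theorem sb_injective (b : Bool) : Function.Injective (sb b) := by
  intro y z h
  rcases y with _ | y <;> rcases z with _ | z <;> cases b <;> simp_all [sb]

theorem sb_eq_none {b : Bool} {y : Option Bool} : sb b y = none ↔ y = none := by
  rcases y with _ | y <;> simp [sb]

theorem sb_true (y : Option Bool) : sb true y = y := by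
  rcases y with _ | y <;> simp [sb]

/-- the sign of `i` in the image under `w` of the standard set `{(j, true) : j ≤ t}` -/
noncomputable def yv (w : W) (t i : Fin n) : Option Bool := if ta cs w i ≤ t then some (de cs w i) else none

theorem yv_eq_none {w : W} {t i : Fin n} : yv cs w t i = none ↔ ¬ ta cs w i ≤ t := by
  unfold yv
  split_ifs with h <;> simp [h]

theorem yv_one (t i : Fin n) : yv cs 1 t i = if i ≤ t then some true else none := by
  unfold yv
  rw [ta_one, de_one]

theorem ta_mul (u w : W) (i : Fin n) : ta cs (u * w) i = ta cs w (ta cs u i) := by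
  rw [ta, mul_inv_rev, map_mul, Equiv.Perm.mul_apply, sp_inv_true]
  cases h : de cs u i
  · rw [sp_inv_false]
  · rw [sp_inv_true]

theorem de_mul (u w : W) (i : Fin n) :
    de cs (u * w) i = if de cs u i then de cs w (ta cs u i) else !de cs w (ta cs u i) := by
  rw [de, mul_inv_rev, map_mul, Equiv.Perm.mul_apply, sp_inv_true]
  cases h : de cs u i
  · rw [sp_inv_false]
    simp
  · rw [sp_inv_true]
    simp

theorem yv_mul (u w : W) (t i : Fin n) : yv cs (u * w) t i = sb (de cs u i) (yv cs w t (ta cs u i)) := by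
  unfold yv
  rw [ta_mul, de_mul]
  by_cases h : ta cs w (ta cs u i) ≤ t
  · rw [if_pos h, if_pos h]
    rfl
  · rw [if_neg h, if_neg h]
    rfl

/-- nestedness -/
theorem yv_mono (w : W) {s t : Fin n} (hst : s ≤ t) (i : Fin n) : yv cs w s i = none ∨ yv cs w s i = yv cs w t i := by
  unfold yv
  by_cases h : ta cs w i ≤ s
  · right
    rw [if_pos h, if_pos (h.trans hst)]
  · left
    rw [if_neg h]

/-- the number of signed indices -/
theorem card_yv (w : W) (t : Fin n) : Nat.card {i : Fin n // yv cs w t i ≠ none} = t + 1 := by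
  have e : {i : Fin n // yv cs w t i ≠ none} ≃ {i : Fin n // i ≤ t} :=
    (Equiv.ofBijective _ (ta_bijective cs w)).subtypeEquiv fun i => by
      rw [Ne, yv_eq_none, not_not]
      rfl
  rw [Nat.card_congr e, Nat.card_eq_fintype_card, Fintype.card_subtype]
  have h2 : (Finset.univ.filter fun i : Fin n => i ≤ t) = Finset.Iic t := by
    ext i
    simp
  rw [h2, Fin.card_Iic]

/-! ### surjectivity -/

/-- every pair (permutation, signs) is realised -/
theorem exists_of_perm (τ : Equiv.Perm (Fin n)) (δ : Fin n → Bool) : ∃ w : W, ta cs w = τ ∧ de cs w = δ := by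
  let g : Wb (Fin n) := ⟨fun j => if δ (τ.symm j) then 1 else -1, τ⟩
  obtain ⟨v, hv⟩ := homB_surjective cs g
  refine ⟨v⁻¹, ?_, ?_⟩
  · rw [ta_eq, inv_inv, hv]
  · funext i
    unfold de
    rw [inv_inv, sp_apply, hv]
    change bx (if δ (τ.symm (τ i)) then 1 else -1) true = δ i
    rw [Equiv.symm_apply_apply]
    cases δ i
    · rw [if_neg (by decide), bx_neg]
      rfl
    · rw [if_pos rfl, bx_one]

/-! ### the sign of a root -/

theorem sum_ee (x : Fin n → ℤ) (m : Fin n) : ∑ k ∈ Finset.Iic m, ee x k = (if (m : ℕ) + 1 < n then 1 else 2) * x m := by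
  have h1 : ∀ k, ee x k = ∑ j, x j * bt j k := by
    intro k
    simp [ee, Finset.sum_apply]
  simp only [h1]
  rw [Finset.sum_comm]
  simp only [← Finset.mul_sum, sum_bt]
  rw [Finset.sum_eq_single m]
  · simp only [if_true]
    split_ifs <;> ring
  · intro j _ hj
    simp [Ne.symm hj]
  · simp

theorem sum_wt (a : Fin n × Bool) (m : Fin n) :
    ∑ k ∈ Finset.Iic m, wt a k = if a.1 ≤ m then (if a.2 then 1 else -1) else 0 := by
  simp only [wt, Finset.sum_pi_single', Finset.mem_Iic]

/-- the value of the partial sum of a sign -/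
def sz' (y : Option Bool) : ℤ := match y with
  | none => 0
  | some true => 1
  | some false => -1

theorem sz'_injective : Function.Injective sz' := by
  intro y z h
  rcases y with _ | (_ | _) <;> rcases z with _ | (_ | _) <;> simp_all [sz']

theorem sum_wt_inv (w : W) (i t : Fin n) : ∑ k ∈ Finset.Iic t, wt (sp cs w⁻¹ (i, true)) k = sz' (yv cs w t i) := by
  rw [sum_wt, sp_inv_true]
  change (if ta cs w i ≤ t then (if de cs w i then (1 : ℤ) else -1) else 0) = _
  unfold yv
  by_cases h : ta cs w i ≤ t
  · rw [if_pos h, if_pos h]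
    cases de cs w i <;> rfl
  · rw [if_neg h, if_neg h]
    rfl

/-- **The coefficient of `α_t` in `w⁻¹ α_j` vanishes iff `j` and `j + 1` have the same sign in the `t`-th set.** -/
theorem coef_eq_zero_iff (w : W) {j : Fin n} (hj : (j : ℕ) + 1 < n) (t : Fin n) :
    rep cs (isCartan n) w⁻¹ (sr j) t = 0 ↔ yv cs w t j = yv cs w t ⟨j + 1, hj⟩ := by
  have h1 := ee_act cs w⁻¹ (sr j) (j, true) (nx j) (ee_sr j)
  have h2 : nx j = (⟨j + 1, hj⟩, false) := by
    unfold nx
    rw [dif_pos hj]
  have h3 : ee (rep cs (isCartan n) w⁻¹ (sr j)) = wt (sp cs w⁻¹ (j, true)) + - wt (sp cs w⁻¹ (⟨j + 1, hj⟩, true)) := by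
    rw [h1, h2, ← wt_ng, ← sp_ng]
    rfl
  have h4 := sum_ee (rep cs (isCartan n) w⁻¹ (sr j)) t
  rw [h3] at h4
  simp only [Pi.add_apply, Pi.neg_apply, Finset.sum_add_distrib, Finset.sum_neg_distrib, sum_wt_inv] at h4
  rw [← sz'_injective.eq_iff]
  split_ifs at h4
  · constructor
    · intro h; rw [h] at h4; linarith
    · intro h; rw [h] at h4; linarith
  · constructor
    · intro h; rw [h] at h4; linarith
    · intro h; rw [h] at h4; linarith

/-! ### the standard parabolic subgroups -/

theorem yv_simple {k t : Fin n} (hkt : k ≠ t) (i : Fin n) : yv cs (cs.simple k) t i = yv cs 1 t i := by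
  have h1 : sp cs (cs.simple k)⁻¹ (i, true) = sg k (i, true) := by
    rw [cs.inv_simple, sp_simple]
  have h2 : ta cs (cs.simple k) i = (sg k (i, true)).1 := congrArg Prod.fst h1
  have h3 : de cs (cs.simple k) i = (sg k (i, true)).2 := congrArg Prod.snd h1
  have hkt' : (k : ℕ) ≠ t := fun e => hkt (Fin.ext e)
  rw [yv, yv_one, h2, h3]
  unfold sg
  by_cases hk : (k : ℕ) + 1 < n
  · rw [dif_pos hk]
    by_cases h4 : i = k
    · subst h4
      simp only [if_true]
      have : ((⟨i + 1, hk⟩ : Fin n) ≤ t) ↔ i ≤ t := by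
        rw [Fin.le_def, Fin.le_def]
        change (i : ℕ) + 1 ≤ t ↔ _
        omega
      simp only [this]
    · by_cases h5 : i = ⟨k + 1, hk⟩
      · subst h5
        simp only [h4, if_false, if_true]
        have : (k ≤ t) ↔ (⟨k + 1, hk⟩ : Fin n) ≤ t := by
          rw [Fin.le_def, Fin.le_def]
          change _ ↔ (k : ℕ) + 1 ≤ t
          omega
        simp only [this]
      · simp only [h4, h5, if_false]
  · rw [dif_neg hk]
    by_cases h4 : i = k
    · subst h4
      simp only [if_true]
      have : ¬ i ≤ t := by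
        rw [Fin.le_def]
        have := t.2
        have := i.2
        omega
      simp only [this, if_false]
    · simp only [h4, if_false]

/-- the stabiliser of the standard sets for the nodes of `T` -/
noncomputable def stb (T : Set (Fin n)) : Subgroup W where
  carrier := {v | ∀ t ∈ T, ∀ i, yv cs v t i = yv cs 1 t i}
  one_mem' _ _ _ := rfl
  mul_mem' := by
    intro u v hu hv t ht i
    rw [yv_mul, hv t ht, ← yv_mul, mul_one, hu t ht]
  inv_mem' := by
    intro v hv t ht i
    have h1 := yv_mul cs v⁻¹ v t i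
    rw [inv_mul_cancel, hv t ht, ← yv_mul, mul_one] at h1
    exact h1.symm

theorem mem_stb {T : Set (Fin n)} {v : W} : v ∈ stb cs T ↔ ∀ t ∈ T, ∀ i, yv cs v t i = yv cs 1 t i := Iff.rfl

theorem closure_le_stb (T : Set (Fin n)) : Subgroup.closure (cs.simple '' Tᶜ) ≤ stb cs T := by
  rw [Subgroup.closure_le]
  rintro _ ⟨k, hk, rfl⟩ t ht i
  exact yv_simple cs (fun e => hk (by rw [e]; exact ht)) i

theorem nonneg_of_fix {v : W} {k : Fin n} (h : ∀ i, yv cs v k i = yv cs 1 k i) : 0 ≤ rep cs (isCartan n) v (sr k) := by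
  -- `v⁻¹ (i, true) = (ta v i, true)` for `i ≤ k`, `ta v` maps `{i ≤ k}` onto itself
  have h1 : ∀ i, ta cs v i ≤ k ↔ i ≤ k := by
    intro i
    have h2 := h i
    rw [yv_one] at h2
    rw [← not_iff_not, ← yv_eq_none, h2]
    split_ifs with h3 <;> simp [h3]
  have h2 : ∀ i, i ≤ k → de cs v i = true := by
    intro i hi
    have h2 := h i
    rw [yv_one, if_pos hi, yv, if_pos ((h1 i).2 hi)] at h2
    exact Option.some.inj h2
  obtain ⟨i, hi⟩ := (ta_bijective cs v).2 k
  have hik : i ≤ k := (h1 i).1 (le_of_eq hi)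
  have h3 : sp cs v (k, true) = (i, true) := by
    have h4 : sp cs v⁻¹ (i, true) = (k, true) := by rw [sp_inv_true, hi, h2 i hik]
    rw [← h4, sp_cancel]
  have h4 := ee_act cs v (sr k) (k, true) (nx k) (ee_sr k)
  change ee (rep cs (isCartan n) v (sr k)) = wt (sp cs v (k, true)) + wt (sp cs v (nx k)) at h4
  rw [h3] at h4
  intro m
  have h5 := sum_ee (rep cs (isCartan n) v (sr k)) m
  rw [h4] at h5
  simp only [Pi.add_apply, Finset.sum_add_distrib, sum_wt] at h5
  have h6 : (0 : ℤ) ≤ (if i ≤ m then (if (true : Bool) then 1 else -1) else 0) +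
      (if (sp cs v (nx k)).1 ≤ m then (if (sp cs v (nx k)).2 then 1 else -1) else 0) := by
    by_cases hk : (k : ℕ) + 1 < n
    · have h7 : i < (sp cs v (nx k)).1 := by
        set j : Fin n := (sp cs v (nx k)).1 with hj
        have h8 : nx k = (⟨k + 1, hk⟩, false) := by
          unfold nx
          rw [dif_pos hk]
        have h9 : ta cs v j = ⟨k + 1, hk⟩ := by
          have h10 : sp cs v⁻¹ (sp cs v (nx k)) = nx k := sp_cancel' cs v _
          have h11 : (sp cs v⁻¹ (sp cs v (nx k))).1 = ta cs v j := by
            rw [hj]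
            obtain ⟨a, b⟩ := sp cs v (nx k)
            cases b
            · rw [sp_inv_false]
            · rw [sp_inv_true]
          rw [← h11, h10, h8]
        refine lt_of_le_of_lt hik (not_le.1 fun h12 => ?_)
        have h13 := (h1 j).2 h12
        rw [h9, Fin.le_def] at h13
        change (k : ℕ) + 1 ≤ k at h13
        omega
      by_cases h8 : i ≤ m
      · rw [if_pos h8, if_pos rfl]
        split_ifs <;> norm_num
      · rw [if_neg h8, if_neg (fun h9 => h8 (h7.le.trans h9)), add_zero]
    · have h8 : nx k = (k, true) := by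
        unfold nx
        rw [dif_neg hk]
      rw [h8, h3]
      change (0 : ℤ) ≤ (if i ≤ m then 1 else 0) + (if i ≤ m then 1 else 0)
      split_ifs <;> norm_num
  simp only [if_true] at h5 h6
  rw [h5] at h6
  change (0 : ℤ) ≤ _
  split_ifs at h6 <;> linarith

/-- **The standard parabolic subgroups are the stabilisers of the standard flags.** -/
theorem stb_eq (T : Set (Fin n)) : stb cs T = Subgroup.closure (cs.simple '' Tᶜ) := by
  refine le_antisymm ?_ (closure_le_stb cs T)
  intro v
  induction hl : cs.length v using Nat.strong_induction_on generalizing v with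
  | _ l ih =>
    intro hv
    by_cases h1 : v = 1
    · rw [h1]
      exact one_mem _
    · obtain ⟨k, hk⟩ := cs.exists_rightDescent_of_ne_one h1
      have hk' : cs.length (v * cs.simple k) < cs.length v := hk
      by_cases hkT : k ∈ T
      · exfalso
        have h2 := nonneg_of_fix cs (hv k hkT)
        have h3 : rep cs (isCartan n) v (sr k) ≤ 0 := nonpos_of_lt cs (isCartan n) v k hk'
        exact rep_single_ne_zero cs (isCartan n) v k (le_antisymm h3 h2)
      · have h2 : cs.simple k ∈ Subgroup.closure (cs.simple '' Tᶜ) := Subgroup.subset_closure ⟨k, hkT, rfl⟩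
        have h3 : v * cs.simple k ∈ stb cs T := mul_mem hv (closure_le_stb cs T h2)
        have h4 := ih _ (hl ▸ hk') rfl h3
        have h5 := mul_mem h4 h2
        rwa [cs.simple_mul_simple_cancel_right] at h5

/-- **Cosets of standard parabolic subgroups and flags.** -/
theorem yv_eq_iff {T : Set (Fin n)} {w w' : W} :
    (∀ t ∈ T, ∀ i, yv cs w t i = yv cs w' t i) ↔ w⁻¹ * w' ∈ Subgroup.closure (cs.simple '' Tᶜ) := by
  rw [← stb_eq, mem_stb]
  refine forall₂_congr fun t _ => ?_
  have h1 : ∀ i, yv cs w' t i = sb (de cs w i) (yv cs (w⁻¹ * w') t (ta cs w i)) := by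
    intro i
    rw [← yv_mul, mul_inv_cancel_left]
  have h2 : ∀ i, yv cs w t i = sb (de cs w i) (yv cs 1 t (ta cs w i)) := by
    intro i
    rw [← yv_mul, mul_one]
  constructor
  · intro h j
    obtain ⟨i, rfl⟩ := (ta_bijective cs w).2 j
    have h3 := h i
    rw [h1, h2] at h3
    exact (sb_injective _ h3).symm
  · intro h i
    rw [h1, h2, h]

end Cfsg.Agent.H236.XZ
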